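import Cfsg.Agent.Lib.SEightThree.Basic

/-!
Finite facts about `Sym 3 × Sym 5` and the alternating group of degree five, for the centralizer
of two transpositions.
-/

set_option autoImplicit false
set_option maxRecDepth 100000
set_option synthInstance.maxSize 100000
set_option synthInstance.maxHeartbeats 200000
set_option maxHeartbeats 1000000

namespace CfsgLib.SEightThree.KStruct

open Equiv

/-- Rotation taking the three-cycle `dF` to `xF`. -/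
def rotF : KF := (1, finRotate 5 ^ 3)

/-- The first factor of the isomorphism between the two centralizers. -/
def piF : KF := (1, swap 0 4 * swap 4 1 * swap 1 2 * swap 2 3)

/-- The last factor of the isomorphism between the two centralizers. -/
def elF : KF := (1, swap 0 3 * swap 3 2 * swap 2 1 * swap 1 4)

/-- `(0 2)`, exchanging the transpositions `tF` and `cF`. -/
def wF : KF := (1, swap 0 2)

theorem piF_spec : piF.2 0 = 4 ∧ piF.2 1 = 2 ∧ piF.2 2 = 3 ∧ piF.2 3 = 0 ∧ piF.2 4 = 1 := by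
  decide +kernel

theorem elF_spec : elF.2 0 = 3 ∧ elF.2 1 = 4 ∧ elF.2 2 = 1 ∧ elF.2 3 = 2 ∧ elF.2 4 = 0 := by
  decide +kernel

theorem conj_facts :
    (rotF * tF * rotF⁻¹ = hF ∧ rotF * eF * rotF⁻¹ = eF ∧ rotF * dF * rotF⁻¹ = xF) ∧
    (piF * cF * piF⁻¹ = fF ∧ piF * hF * piF⁻¹ = tF ∧ piF * eF * piF⁻¹ = eF ∧
      piF * zF * piF⁻¹ = zF) ∧
    (elF * eF * elF⁻¹ = eF ∧ elF * tF * elF⁻¹ = hF ∧ elF * fF * elF⁻¹ = cF ∧
      elF * dF * elF⁻¹ = xF) ∧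
    (wF * tF * wF⁻¹ = cF ∧ wF * cF * wF⁻¹ = tF ∧ wF * eF * wF⁻¹ = eF ∧ wF * hF * wF⁻¹ = hF) ∧
    (bF * cF * bF⁻¹ = hF ∧ bF * hF * bF⁻¹ = cF ∧ bF * eF * bF⁻¹ = eF ∧ bF * zF * bF⁻¹ = zF) ∧
    (fF * zF * fF⁻¹ = zF ∧ fF * dF * fF⁻¹ = dF⁻¹ ∧ fF * fF = 1) := by
  decide +kernel

theorem rel_facts :
    (eF * eF = 1 ∧ hF * hF = 1 ∧ cF * cF = 1 ∧ tF * tF = 1 ∧ bF * bF = 1 ∧ fF * fF = 1) ∧
    (eF * hF = hF * eF ∧ eF * cF = cF * eF ∧ cF * hF = hF * cF ∧ eF * tF = tF * eF ∧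
      tF * hF = hF * tF ∧ zF * cF = cF * zF ∧ zF * hF = hF * zF) ∧
    (xF = tF * cF ∧ xF * xF * xF = 1 ∧ aF = cF * hF * bF ∧ (sF 0 * tF) ^ 3 = 1 ∧
      zF * dF = dF * zF ∧ zF * zF * zF = 1 ∧ dF * dF * dF = 1 ∧ xF ≠ 1) := by
  decide +kernel

theorem phi_facts :
    (sF 0 * eF = eF * sF 0 ∧ sF 0 * fF = fF * sF 0 ∧ sF 0 * sF 0 = 1 ∧
      ∃ i : Fin 3, sF 0 * (zF ^ (i : ℕ) * eF * (zF ^ (i : ℕ))⁻¹) =
          zF ^ (i : ℕ) * eF * (zF ^ (i : ℕ))⁻¹ * sF 0 ∧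
        dF ^ (i : ℕ) * fF * (dF ^ (i : ℕ))⁻¹ = hF) ∧
    (sF 0 ≠ 1 ∧ sF 0 ≠ fF ∧ sF 0 ≠ tF ∧ sF 0 ≠ tF * fF) := by
  decide +kernel

/-- The centralizer of the conjugated three-cycle in the two transpositions. -/
theorem cent_three : ∀ k : KF, k * zF = zF * k → k * fF = fF * k → k * tF = tF * k →
    ∃ (i : Fin 3) (p q : Fin 2), k = zF ^ (i : ℕ) * tF ^ (p : ℕ) * fF ^ (q : ℕ) := by
  decide +kernel

/-- What commutes with `fF` in the group of order twenty-four over the symmetric group of degree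
three. -/
theorem coset_fix : ∀ (i : Fin 3) (j p q : Fin 2),
    xF ^ (i : ℕ) * tF ^ (j : ℕ) * (eF ^ (p : ℕ) * hF ^ (q : ℕ)) * fF =
      fF * (xF ^ (i : ℕ) * tF ^ (j : ℕ) * (eF ^ (p : ℕ) * hF ^ (q : ℕ))) →
    xF ^ (i : ℕ) * tF ^ (j : ℕ) * (eF ^ (p : ℕ) * hF ^ (q : ℕ)) ∈ [1, eF, tF, tF * eF] := by
  decide +kernel

/-- The centralizer of the dihedral group in `cF, hF, bF`. -/
theorem cent_dihedral : ∀ k : KF, k * cF = cF * k → k * hF = hF * k → k * bF = bF * k →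
    (k * zF * k⁻¹ * zF⁻¹) ^ 3 = 1 ∧
    (k * zF = zF * k → k * k = zF * k * k * zF⁻¹ ∧ (k * k) ^ 3 = 1 ∧
      (k * k = 1 → k = 1 ∨ k = cF * hF)) ∧ k ^ 12 = 1 := by
  decide +kernel

theorem cent_pair : ∀ k : KF, k * zF = zF * k → k * cF = cF * k → k * hF = hF * k →
    (k * k) ^ 3 = 1 ∧ (k * k = 1 → k ∈ [1, cF, hF, cF * hF]) := by
  decide +kernel

theorem sym_three_fix : ∀ k : Perm (Fin 3), k * (swap 0 1 * swap 1 2) = swap 0 1 * swap 1 2 * k →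
    (k ^ 5 = 1 → k = 1) ∧ (k * k = 1 → k = 1) ∧ (k ^ 4 = 1 → k = 1) ∧ k ^ 60 = 1 := by
  decide +kernel

theorem sym_five_sixty : ∀ k : Perm (Fin 5), k ^ 60 = 1 := by
  decide +kernel

/-- An element of order five commutes with no involution. -/
theorem five_involution : ∀ k : Perm (Fin 5), k ^ 5 = 1 → k ≠ 1 → ∀ j : Perm (Fin 5),
    j * j = 1 → j * k = k * j → j = 1 := by
  decide +kernel

theorem four_odd : ∀ k : Perm (Fin 5), k ^ 4 = 1 → k * k ≠ 1 →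
    Perm.sign k = -1 ∧ Perm.sign (k * k) = 1 := by
  decide +kernel

/-- Two commuting even involutions can be moved to the standard four-group. -/
theorem four_conj : ∀ j : Perm (Fin 5), j * j = 1 → j ≠ 1 → Perm.sign j = 1 →
    ∀ k : Perm (Fin 5), k * k = 1 → k ≠ 1 → Perm.sign k = 1 → j * k = k * j → j ≠ k →
    ∃ n : Perm (Fin 5), n * j * n⁻¹ = swap 1 4 * swap 2 3 ∧ n * k * n⁻¹ = swap 1 3 * swap 2 4 := by
  decide +kernel

/-- The centralizer of the standard four-group has order twenty-four. -/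
theorem card_cent_four :
    (Finset.univ.filter fun k : KF => k * aF = aF * k ∧ k * bF = bF * k).card = 24 := by
  decide +kernel

/-- Three involutions of the alternating group of degree five with two products of order three. -/
theorem five_cases : ∀ a : Perm (Fin 5), Perm.sign a = 1 → a * a = 1 → a ≠ 1 →
    ∀ b : Perm (Fin 5), Perm.sign b = 1 → b * b = 1 → b ≠ 1 → a ≠ b → (a * b) ^ 3 = 1 →
    ∀ c : Perm (Fin 5), Perm.sign c = 1 → c * c = 1 → c ≠ 1 → b ≠ c → (b * c) ^ 3 = 1 →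
    a = c ∨ a = b * c * b ∨ ((a * c) ^ 5 = 1 ∧ (a * b * c) ^ 3 = 1) := by
  decide +kernel

/-- The elements of the group generated by the three transpositions `eF, cF, hF`. -/
def EF (i : Fin 2 × Fin 2 × Fin 2) : KF :=
  eF ^ (i.1 : ℕ) * cF ^ (i.2.1 : ℕ) * hF ^ (i.2.2 : ℕ)

theorem EF_facts : Function.Injective EF ∧ (∀ i j, ∃ l, EF i * EF j = EF l) ∧
    (∀ i, EF i * EF i = 1) ∧
    (EF (1, 0, 0) = eF ∧ EF (0, 1, 0) = cF ∧ EF (0, 0, 1) = hF ∧ EF (0, 0, 0) = 1) ∧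
    (∀ p q : Fin 2, EF (p, 0, q) = eF ^ (p : ℕ) * hF ^ (q : ℕ) ∧
      EF (p, 1, q) = cF * (eF ^ (p : ℕ) * hF ^ (q : ℕ))) ∧
    (cF ≠ eF ∧ cF * eF ≠ eF * hF ∧ cF * hF ≠ eF * cF ∧ cF ∉ [1, eF, hF, eF * hF]) := by
  decide +kernel

end CfsgLib.SEightThree.KStruct
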