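import Cfsg.Agent.Lib.SEightThree.Common
import Cfsg.Agent.Lib.SEightThree.KStruct.Facts

/-!
The centralizer `K` of the transpositions `e, h`: its element of order three, the isomorphism
with the centralizer of `c, h`, and an element of order three permuting `e, c, h`.
-/

set_option autoImplicit false
set_option linter.style.haveILetI false
set_option linter.unusedSectionVars false
set_option maxRecDepth 100000

namespace CfsgLib.SEightThree.KStruct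

open Subgroup Equiv

universe u

theorem Z_list : ∀ p q p' q' : Fin 2, ∃ p'' q'' : Fin 2,
    eF ^ (p : ℕ) * hF ^ (q : ℕ) * (eF ^ (p' : ℕ) * hF ^ (q' : ℕ)) =
      eF ^ (p'' : ℕ) * hF ^ (q'' : ℕ) := by
  decide +kernel

theorem Z_list_facts : ∀ p q : Fin 2,
    (eF ^ (p : ℕ) * hF ^ (q : ℕ)) * (eF ^ (p : ℕ) * hF ^ (q : ℕ)) = 1 := by
  decide +kernel

theorem rot_facts : ∀ (i : Fin 3) (p q : Fin 2),
    rotF * (dF ^ (i : ℕ) * tF ^ (p : ℕ) * eF ^ (q : ℕ)) * rotF⁻¹ =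
      xF ^ (i : ℕ) * (eF ^ (q : ℕ) * hF ^ (p : ℕ)) := by
  decide +kernel

variable {G : Type u} [Group G] (S : Setup G)

theorem inv_of_sq {k : KF} (h : k * k = 1) : (S.ψ k)⁻¹ = S.ψ k :=
  inv_eq_of_mul_eq_one_right (by rw [← map_mul, h, map_one])

theorem psi_sq {k : KF} (h : k * k = 1) : S.ψ k * S.ψ k = 1 := by rw [← map_mul, h, map_one]

/-- Conjugation moves commutation. -/
theorem conj_comm {n y w w' : G} (h : n * w * n⁻¹ = w') (hy : y * w = w * y) :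
    n * y * n⁻¹ * w' = w' * (n * y * n⁻¹) := by
  rw [← h, conj_mul, conj_mul, hy]

theorem unconj_comm {n y w w' : G} (h : n * w * n⁻¹ = w') (hy : y * w' = w' * y) :
    n⁻¹ * y * n * w = w * (n⁻¹ * y * n) := by
  subst h
  calc n⁻¹ * y * n * w = n⁻¹ * (y * (n * w * n⁻¹)) * n := by group
    _ = n⁻¹ * ((n * w * n⁻¹) * y) * n := by rw [hy]
    _ = w * (n⁻¹ * y * n) := by group

theorem mem_K {y : G} : y ∈ S.K ↔ y * S.ψ eF = S.ψ eF * y ∧ y * S.ψ hF = S.ψ hF * y := by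
  rw [Setup.K, mem_centralizer_iff]
  simp only [Set.mem_insert_iff, Set.mem_singleton_iff, forall_eq_or_imp, forall_eq]
  exact ⟨fun h => ⟨h.1.symm, h.2.symm⟩, fun h => ⟨h.1.symm, h.2.symm⟩⟩

theorem psi_mem_K {k : KF} (he : k * eF = eF * k) (hh : k * hF = hF * k) : S.ψ k ∈ S.K :=
  (mem_K S).2 ⟨S.map_comm he, S.map_comm hh⟩

theorem mem_Z {y : G} :
    y ∈ S.Z ↔ ∃ p q : Fin 2, y = S.ψ (eF ^ (p : ℕ) * hF ^ (q : ℕ)) := by
  constructor
  · intro hy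
    rw [Setup.Z] at hy
    induction hy using closure_induction with
    | mem w hw =>
      rcases hw with rfl | rfl
      · exact ⟨1, 0, by simp⟩
      · exact ⟨0, 1, by simp⟩
    | one => exact ⟨0, 0, by simp⟩
    | mul w w' _ _ hw hw' =>
      obtain ⟨p, q, rfl⟩ := hw
      obtain ⟨p', q', rfl⟩ := hw'
      obtain ⟨p'', q'', h⟩ := Z_list p q p' q'
      exact ⟨p'', q'', by rw [← map_mul, h]⟩
    | inv w _ hw =>
      obtain ⟨p, q, rfl⟩ := hw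
      exact ⟨p, q, inv_of_sq S (Z_list_facts p q)⟩
  · rintro ⟨p, q, rfl⟩
    rw [map_mul, map_pow, map_pow]
    have h1 : S.ψ eF ∈ S.Z := Subgroup.subset_closure (Or.inl rfl)
    have h2 : S.ψ hF ∈ S.Z := Subgroup.subset_closure (Or.inr rfl)
    exact mul_mem (pow_mem h1 _) (pow_mem h2 _)

theorem e_mem_Z : S.ψ eF ∈ S.Z := Subgroup.subset_closure (Or.inl rfl)

theorem h_mem_Z : S.ψ hF ∈ S.Z := Subgroup.subset_closure (Or.inr rfl)

theorem Z_sq {ζ : G} (h : ζ ∈ S.Z) : ζ * ζ = 1 := by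
  obtain ⟨p, q, rfl⟩ := (mem_Z S).1 h
  exact psi_sq S (Z_list_facts p q)

theorem Z_comm {ζ y : G} (h : ζ ∈ S.Z) (hy : y ∈ S.K) : Commute y ζ := by
  obtain ⟨he, hh⟩ := (mem_K S).1 hy
  obtain ⟨p, q, rfl⟩ := (mem_Z S).1 h
  rw [map_mul, map_pow, map_pow]
  exact ((show Commute y (S.ψ eF) from he).pow_right _).mul_right
    ((show Commute y (S.ψ hF) from hh).pow_right _)

theorem Z_le_K : S.Z ≤ S.K := by
  rw [Setup.Z, closure_le]
  rintro _ (rfl | rfl)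
  · exact psi_mem_K S rfl rel_facts.2.1.1
  · exact psi_mem_K S rel_facts.2.1.1.symm rfl

theorem Z_normal : (S.Z.subgroupOf S.K).Normal := by
  refine ⟨fun n hn k => ?_⟩
  rw [mem_subgroupOf] at hn ⊢
  rw [Subgroup.coe_mul, Subgroup.coe_mul, Subgroup.coe_inv, (Z_comm S hn k.2).eq,
    mul_inv_cancel_right]
  exact hn

theorem Z_card_two_pow {ζ : G} (h : ζ ∈ S.Z) {n : ℕ} (hn : Odd n) (h1 : ζ ^ n = 1) : ζ = 1 := by
  obtain ⟨j, rfl⟩ := hn
  rwa [pow_succ, pow_mul, pow_two, Z_sq S h, one_pow, one_mul] at h1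

theorem e_phi (hS : S.IsSym) : S.φ fF = S.ψ eF := by rw [Setup.φ_apply, hS.2]

theorem f_phi (hS : S.IsSym) : S.φ eF = S.ψ fF := by rw [Setup.φ_apply, hS.1]

theorem a_facts (hS : S.IsSym) : S.φ (sF 0) ∈ S.K ∧
    S.φ (sF 0) * S.ψ fF = S.ψ fF * S.φ (sF 0) ∧ S.φ (sF 0) * S.φ (sF 0) = 1 ∧
    (S.φ (sF 0) * S.ψ tF) ^ 3 = 1 := by
  obtain ⟨hae, haf, ha2, i, hi1, hi2⟩ := phi_facts.1
  refine ⟨(mem_K S).2 ⟨?_, ?_⟩, ?_, ?_, ?_⟩
  · rw [← e_phi S hS]; exact S.φ_map_comm haf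
  · have e : S.φ (zF ^ (i : ℕ) * eF * (zF ^ (i : ℕ))⁻¹) = S.ψ hF := by
      rw [map_mul, map_mul, map_inv, map_pow, S.φ_zF, f_phi S hS, ← map_pow, ← map_inv,
        ← map_mul, ← map_mul, hi2]
    rw [← e]; exact S.φ_map_comm hi1
  · rw [← f_phi S hS]; exact S.φ_map_comm hae
  · rw [← map_mul, ha2, map_one]
  · rw [← S.φ_tF, ← map_mul, ← map_pow, rel_facts.2.2.2.2.2.1, map_one]

theorem x_mem_K : S.ψ xF ∈ S.K :=
  psi_mem_K S (by decide +kernel) (by decide +kernel)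

theorem x_cube : S.ψ xF ^ 3 = 1 := by
  rw [pow_succ, pow_two, ← map_mul, ← map_mul, rel_facts.2.2.2.1, map_one]

/-- The centralizer of the three-cycle in `K`. -/
theorem cent_x (hS : S.IsSym) {y : G} (hy : y ∈ S.K) (hx : y * S.ψ xF = S.ψ xF * y) :
    ∃ i : Fin 3, ∃ ζ ∈ S.Z, y = S.ψ xF ^ (i : ℕ) * ζ := by
  obtain ⟨he, hh⟩ := (mem_K S).1 hy
  obtain ⟨⟨r1, r2, r3⟩, -⟩ := conj_facts
  set n := S.ψ rotF
  have hd : n⁻¹ * y * n * S.ψ dF = S.ψ dF * (n⁻¹ * y * n) := unconj_comm (S.map_conj r3) hx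
  obtain ⟨k, hk⟩ := S.cent_d_le (mem_centralizer_singleton_iff.2 hd)
  have kcomm : ∀ {m : KF} {w : G}, S.φ m = w →
      n⁻¹ * y * n * w = w * (n⁻¹ * y * n) → k * m = m * k := fun {m w} hm h => by
    refine S.φ_inj ?_
    rw [map_mul, map_mul, hk, hm, h]
  obtain ⟨i, p, q, rfl⟩ := cent_three k (kcomm S.φ_zF hd)
    (kcomm (e_phi S hS) (unconj_comm (S.map_conj r2) he))
    (kcomm S.φ_tF (unconj_comm (S.map_conj r1) hh))
  rw [map_mul, map_mul, map_pow, map_pow, map_pow, S.φ_zF, S.φ_tF, e_phi S hS, ← map_pow,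
    ← map_pow, ← map_pow, ← map_mul, ← map_mul] at hk
  refine ⟨i, _, (mem_Z S).2 ⟨q, p, rfl⟩, ?_⟩
  have : y = n * (n⁻¹ * y * n) * n⁻¹ := by group
  rw [this, ← hk, ← map_inv, ← map_mul, ← map_mul, rot_facts i p q, map_mul, map_pow]

/-- What commutes with the three-cycle modulo `Z` commutes with it. -/
theorem comm_x_mod {y ζ : G} (hζ : ζ ∈ S.Z) (h : y * S.ψ xF * y⁻¹ = S.ψ xF * ζ) :
    y * S.ψ xF = S.ψ xF * y := by
  have h3 : (y * S.ψ xF * y⁻¹) ^ 3 = (S.ψ xF * ζ) ^ 3 := by rw [h]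
  rw [conj_pow, x_cube, mul_one, mul_inv_cancel, (Z_comm S hζ (x_mem_K S)).mul_pow, x_cube,
    one_mul] at h3
  rw [Z_card_two_pow S hζ (by decide : Odd 3) h3.symm, mul_one] at h
  exact mul_inv_eq_iff_eq_mul.1 h

/-- The element realising the isomorphism with the centralizer of `c, h`. -/
def eta : G := S.ψ elF * S.g * S.ψ piF

theorem eta_conj (hS : S.IsSym) : eta S * S.ψ cF * (eta S)⁻¹ = S.ψ eF ∧
    eta S * S.ψ hF * (eta S)⁻¹ = S.ψ hF ∧ eta S * S.ψ eF * (eta S)⁻¹ = S.ψ cF ∧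
    eta S * S.ψ zF * (eta S)⁻¹ = S.ψ xF := by
  obtain ⟨-, ⟨p1, p2, p3, p4⟩, ⟨l1, l2, l3, l4⟩, -⟩ := conj_facts
  have key : ∀ {a b c d : KF}, piF * a * piF⁻¹ = b → S.g * S.ψ b * S.g⁻¹ = S.ψ c →
      elF * c * elF⁻¹ = d → eta S * S.ψ a * (eta S)⁻¹ = S.ψ d := by
    intro a b c d h1 h2 h3
    calc eta S * S.ψ a * (eta S)⁻¹
        = S.ψ elF * (S.g * (S.ψ piF * S.ψ a * (S.ψ piF)⁻¹) * S.g⁻¹) * (S.ψ elF)⁻¹ := by
          rw [eta]; group
      _ = S.ψ d := by rw [S.map_conj h1, h2, S.map_conj h3]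
  exact ⟨key p1 hS.2 l1, key p2 S.g_t l2, key p3 hS.1 l3, key p4 S.g_z l4⟩

/-- Pulling `K` back to the centralizer of `c, h`. -/
theorem pull_K (hS : S.IsSym) {y : G} (hy : y ∈ S.K) :
    (eta S)⁻¹ * y * eta S * S.ψ cF = S.ψ cF * ((eta S)⁻¹ * y * eta S) ∧
    (eta S)⁻¹ * y * eta S * S.ψ hF = S.ψ hF * ((eta S)⁻¹ * y * eta S) :=
  ⟨unconj_comm (eta_conj S hS).1 ((mem_K S).1 hy).1,
    unconj_comm (eta_conj S hS).2.1 ((mem_K S).1 hy).2⟩

theorem push_K (hS : S.IsSym) {y : G} (hc : y * S.ψ cF = S.ψ cF * y)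
    (hh : y * S.ψ hF = S.ψ hF * y) : eta S * y * (eta S)⁻¹ ∈ S.K :=
  (mem_K S).2 ⟨conj_comm (eta_conj S hS).1 hc, conj_comm (eta_conj S hS).2.1 hh⟩

/-- The involution exchanging `e` and `h` and fixing `c`. -/
def vv : G := eta S * S.ψ bF * (eta S)⁻¹

theorem vv_facts (hS : S.IsSym) : vv S * vv S = 1 ∧ vv S * S.ψ eF * (vv S)⁻¹ = S.ψ hF ∧
    vv S * S.ψ hF * (vv S)⁻¹ = S.ψ eF ∧ vv S * S.ψ cF * (vv S)⁻¹ = S.ψ cF ∧
    vv S * S.ψ xF * (vv S)⁻¹ = S.ψ xF := by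
  obtain ⟨b1, b2, b3, b4⟩ := conj_facts.2.2.2.2.1
  obtain ⟨h1, h2, h3, h4⟩ := eta_conj S hS
  have key : ∀ {a b c d : KF}, eta S * S.ψ a * (eta S)⁻¹ = S.ψ c → bF * a * bF⁻¹ = b →
      eta S * S.ψ b * (eta S)⁻¹ = S.ψ d → vv S * S.ψ c * (vv S)⁻¹ = S.ψ d := by
    intro a b c d k1 k2 k3
    rw [← k1]
    calc vv S * (eta S * S.ψ a * (eta S)⁻¹) * (vv S)⁻¹
        = eta S * (S.ψ bF * S.ψ a * (S.ψ bF)⁻¹) * (eta S)⁻¹ := by rw [vv]; group
      _ = S.ψ d := by rw [S.map_conj k2, k3]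
  refine ⟨?_, key h1 b1 h2, key h2 b2 h1, key h3 b3 h3, key h4 b4 h4⟩
  rw [vv, conj_mul, ← map_mul, rel_facts.1.2.2.2.2.1, map_one, mul_one, mul_inv_cancel]

/-- What is fixed by `bF` in the centralizer of `c, h` is in the image. -/
theorem fix_bF (hW : centralizer (S.V : Set G) ≤ S.ψ.range) {y : G}
    (hc : y * S.ψ cF = S.ψ cF * y) (hh : y * S.ψ hF = S.ψ hF * y)
    (hb : y * S.ψ bF = S.ψ bF * y) :
    ∃ k : KF, S.ψ k = y ∧ k * cF = cF * k ∧ k * hF = hF * k ∧ k * bF = bF * k := by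
  have hmem : y ∈ centralizer (S.V : Set G) := by
    rw [Setup.V, centralizer_closure, mem_centralizer_iff]
    rintro _ (rfl | rfl)
    · rw [rel_facts.2.2.2.2.1, map_mul, map_mul]
      exact (((show Commute y (S.ψ cF) from hc).mul_right hh).mul_right hb).eq.symm
    · exact hb.symm
  obtain ⟨k, hk⟩ := hW hmem
  exact ⟨k, hk, S.comm_of_map (by rw [hk]; exact hc), S.comm_of_map (by rw [hk]; exact hh),
    S.comm_of_map (by rw [hk]; exact hb)⟩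

theorem fix_vv (hS : S.IsSym) (hW : centralizer (S.V : Set G) ≤ S.ψ.range) {y : G}
    (hy : y ∈ S.K) (hv : vv S * y * (vv S)⁻¹ = y) :
    ∃ k : KF, eta S * S.ψ k * (eta S)⁻¹ = y ∧ k * cF = cF * k ∧ k * hF = hF * k ∧
      k * bF = bF * k := by
  obtain ⟨hc, hh⟩ := pull_K S hS hy
  have hb : (eta S)⁻¹ * y * eta S * S.ψ bF = S.ψ bF * ((eta S)⁻¹ * y * eta S) :=
    unconj_comm (w' := vv S) rfl (mul_inv_eq_iff_eq_mul.1 hv).symm
  obtain ⟨k, hk, h⟩ := fix_bF S hW hc hh hb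
  exact ⟨k, by rw [hk]; group, h⟩

/-- The order is prime to six. -/
def Co6 (y : G) : Prop := (orderOf y).Coprime 6

theorem Co6.eq_one {y : G} (h : Co6 y) {n : ℕ} (hy : y ^ n = 1)
    (hn : ∀ p : ℕ, p.Prime → p ∣ n → p = 2 ∨ p = 3) : y = 1 := by
  rw [← orderOf_eq_one_iff]
  by_contra hne
  obtain ⟨p, hp, hpd⟩ := Nat.exists_prime_and_dvd hne
  have h6 : p ∣ 6 := by
    rcases hn p hp (hpd.trans (orderOf_dvd_of_pow_eq_one hy)) with rfl | rfl <;> norm_num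
  exact hp.ne_one (Nat.eq_one_of_dvd_coprimes h hpd h6)

theorem Co6.conj {y : G} (h : Co6 y) (n : G) : Co6 (n * y * n⁻¹) := by
  show (orderOf (n * y * n⁻¹)).Coprime 6
  rw [← MulAut.conj_apply, MulEquiv.orderOf_eq]
  exact h

theorem Co6.odd {y : G} (h : Co6 y) : Odd (orderOf y) :=
  Nat.coprime_two_right.1 (h.coprime_dvd_right (by norm_num))

theorem twelve_primes : ∀ p : ℕ, p.Prime → p ∣ 12 → p = 2 ∨ p = 3 := by
  intro p hp h
  rcases hp.dvd_mul.1 (show p ∣ 4 * 3 from h) with h | h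
  · exact Or.inl ((Nat.prime_dvd_prime_iff_eq hp Nat.prime_two).1
      (hp.dvd_of_dvd_pow (show p ∣ 2 ^ 2 from h)))
  · exact Or.inr ((Nat.prime_dvd_prime_iff_eq hp Nat.prime_three).1 h)

/-- No element of order prime to six of `K` is fixed by `v`. -/
theorem fix_vv_eq_one (hS : S.IsSym) (hW : centralizer (S.V : Set G) ≤ S.ψ.range) {y : G}
    (hy : y ∈ S.K) (h6 : Co6 y) (hv : vv S * y * (vv S)⁻¹ = y) : y = 1 := by
  obtain ⟨k, hk, hc, hh, hb⟩ := fix_vv S hS hW hy hv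
  refine h6.eq_one (n := 12) ?_ twelve_primes
  rw [← hk, conj_pow, ← map_pow, (cent_dihedral k hc hh hb).2.2, map_one, mul_one, mul_inv_cancel]

variable [Finite G]

/-- Conjugating a three-element into `D`. -/
theorem conj_into_D {w : G} {n : ℕ} (hw : orderOf w = 3 ^ n) : ∃ g : G, g * w * g⁻¹ ∈ S.D := by
  haveI := Fact.mk Nat.prime_three
  have h9 : 3 ^ 2 ∣ Nat.card G := (dvd_of_eq S.card_D.symm).trans (card_subgroup_dvd_card _)
  have hf : (Nat.card G).factorization 3 = 2 := by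
    refine le_antisymm ?_ ((Nat.prime_three.pow_dvd_iff_le_factorization Nat.card_pos.ne').1 h9)
    by_contra hlt
    exact S.not_dvd ((Nat.prime_three.pow_dvd_iff_le_factorization Nat.card_pos.ne').2
      (show 3 ≤ _ by omega))
  have h2 : IsPGroup 3 (zpowers w) := IsPGroup.of_card (n := n) (by rw [Nat.card_zpowers, hw])
  obtain ⟨P, hP⟩ := h2.exists_le_sylow
  obtain ⟨g, hg⟩ := MulAction.exists_smul_eq G P
    (Sylow.ofCard S.D (by rw [S.card_D, hf]; norm_num))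
  refine ⟨g, ?_⟩
  have e : ((g • P : Sylow 3 G) : Subgroup G) = S.D := by rw [hg, Sylow.coe_ofCard]
  rw [← e, Sylow.coe_subgroup_smul, Subgroup.mem_pointwise_smul_iff_inv_smul_mem,
    ← map_inv, MulAut.smul_def, MulAut.conj_apply, inv_inv,
    show g⁻¹ * (g * w * g⁻¹) * g = w by group]
  exact hP (mem_zpowers w)

include S in
theorem three_exp {w : G} {n : ℕ} (hw : orderOf w = 3 ^ n) : w ^ 3 = 1 := by
  obtain ⟨g, hg⟩ := conj_into_D S hw
  obtain ⟨i, j, h⟩ := S.mem_D_iff.1 hg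
  have h3 : (g * w * g⁻¹) ^ 3 = 1 := by
    rw [h, ← map_pow, (Commute.pow_pow (show Commute zF dF from rel_facts.2.2.2.2.2.2.1) _ _).mul_pow,
      ← pow_mul, ← pow_mul, mul_comm (i : ℕ), mul_comm (j : ℕ), pow_mul, pow_mul,
      show zF ^ 3 = 1 by rw [pow_succ, pow_two]; exact rel_facts.2.2.2.2.2.2.2.1,
      show dF ^ 3 = 1 by rw [pow_succ, pow_two]; exact rel_facts.2.2.2.2.2.2.2.2.1,
      one_pow, one_pow, one_mul, map_one]
  rwa [conj_pow, conj_eq_one_iff] at h3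

/-- An element of order three permuting `e, c, h`. -/
theorem exists_rho (hS : S.IsSym) : ∃ r : G, r ^ 3 = 1 ∧
    r * S.ψ eF * r⁻¹ = S.ψ hF ∧ r * S.ψ hF * r⁻¹ = S.ψ cF ∧ r * S.ψ cF * r⁻¹ = S.ψ eF ∧
    ∀ y : G, vv S * y * (vv S)⁻¹ = y⁻¹ → S.ψ bF * y * (S.ψ bF)⁻¹ = y⁻¹ → Commute r y := by
  obtain ⟨hv2, hve, hvh, hvc, -⟩ := vv_facts S hS
  obtain ⟨b1, b2, b3, -⟩ := conj_facts.2.2.2.2.1
  set r0 := vv S * S.ψ bF with hr0
  have step : ∀ {a b c : G}, S.ψ bF * a * (S.ψ bF)⁻¹ = b → vv S * b * (vv S)⁻¹ = c →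
      r0 * a * r0⁻¹ = c := by
    intro a b c h1 h2
    rw [← h2, ← h1, hr0]; group
  have s1 := step (S.map_conj b3) hve
  have s2 := step (S.map_conj b2) hvc
  have s3 := step (S.map_conj b1) hvh
  have key : ∀ (i : ℕ) {a b : G}, r0 ^ i * a * (r0 ^ i)⁻¹ = a → r0 * a * r0⁻¹ = b →
      r0 ^ (i + 1) * a * (r0 ^ (i + 1))⁻¹ = b := by
    intro i a b h1 h2
    calc r0 ^ (i + 1) * a * (r0 ^ (i + 1))⁻¹ = r0 * (r0 ^ i * a * (r0 ^ i)⁻¹) * r0⁻¹ := by
          rw [pow_succ']; group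
      _ = b := by rw [h1, h2]
  have three : ∀ {a b c : G}, r0 * a * r0⁻¹ = b → r0 * b * r0⁻¹ = c → r0 * c * r0⁻¹ = a →
      ∀ i : ℕ, r0 ^ (3 * i) * a * (r0 ^ (3 * i))⁻¹ = a := by
    intro a b c h1 h2 h3 i
    induction i with
    | zero => simp
    | succ i ih =>
      calc r0 ^ (3 * (i + 1)) * a * (r0 ^ (3 * (i + 1)))⁻¹
          = r0 * (r0 * (r0 * (r0 ^ (3 * i) * a * (r0 ^ (3 * i))⁻¹) * r0⁻¹) * r0⁻¹) * r0⁻¹ := by
            rw [mul_add, mul_one, add_comm, pow_add]; group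
        _ = a := by rw [ih, h1, h2, h3]
  set n := orderOf r0 with hn
  have hn0 : 0 < n := orderOf_pos r0
  have hne1 : S.ψ hF ≠ S.ψ eF := fun h => absurd (S.inj h) (by decide +kernel)
  have hne2 : S.ψ cF ≠ S.ψ eF := fun h => absurd (S.inj h) (by decide +kernel)
  have hn3 : n % 3 = 0 := by
    have hfix : r0 ^ n * S.ψ eF * (r0 ^ n)⁻¹ = S.ψ eF := by
      rw [hn, pow_orderOf_eq_one]; group
    rcases (by omega : n % 3 = 0 ∨ n % 3 = 1 ∨ n % 3 = 2) with h | h | h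
    · exact h
    · exfalso
      rw [show n = 3 * (n / 3) + 1 by omega, key _ (three s1 s2 s3 _) s1] at hfix
      exact hne1 hfix
    · exfalso
      have e1 := key _ (three s1 s2 s3 (n / 3)) s1
      have : r0 ^ (3 * (n / 3) + 1 + 1) * S.ψ eF * (r0 ^ (3 * (n / 3) + 1 + 1))⁻¹ = S.ψ cF := by
        calc r0 ^ (3 * (n / 3) + 1 + 1) * S.ψ eF * (r0 ^ (3 * (n / 3) + 1 + 1))⁻¹
            = r0 * (r0 ^ (3 * (n / 3) + 1) * S.ψ eF * (r0 ^ (3 * (n / 3) + 1))⁻¹) * r0⁻¹ := by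
              rw [pow_succ' r0 (3 * (n / 3) + 1)]; group
          _ = S.ψ cF := by rw [e1, s2]
      rw [show n = 3 * (n / 3) + 1 + 1 by omega, this] at hfix
      exact hne2 hfix
  obtain ⟨m, hm⟩ : 3 ∣ n := Nat.dvd_of_mod_eq_zero hn3
  have hm3 : m % 3 ≠ 0 := by
    intro h0
    have h9 : orderOf (r0 ^ (m / 3)) = 3 ^ 2 := by
      rw [orderOf_pow_of_dvd (by omega) ⟨9, by rw [← hn]; omega⟩, ← hn]
      exact Nat.div_eq_of_eq_mul_right (by omega) (by omega)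
    have h := orderOf_dvd_of_pow_eq_one (three_exp S h9)
    rw [h9] at h
    norm_num at h
  obtain ⟨j, hj, hjm⟩ : ∃ j, j % 3 = 1 ∧ m ∣ j := by
    rcases (by omega : m % 3 = 1 ∨ m % 3 = 2) with h | h
    · exact ⟨m, h, dvd_rfl⟩
    · exact ⟨2 * m, by omega, Dvd.intro_left 2 rfl⟩
  refine ⟨r0 ^ j, ?_, ?_, ?_, ?_, fun y h1 h2 => ?_⟩
  · rw [← pow_mul, ← orderOf_dvd_iff_pow_eq_one, ← hn, hm, mul_comm j]
    exact mul_dvd_mul_left 3 hjm
  · rw [show j = 3 * (j / 3) + 1 by omega]; exact key _ (three s1 s2 s3 _) s1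
  · rw [show j = 3 * (j / 3) + 1 by omega]; exact key _ (three s2 s3 s1 _) s2
  · rw [show j = 3 * (j / 3) + 1 by omega]; exact key _ (three s3 s1 s2 _) s3
  · refine Commute.pow_left ?_ j
    have e : r0 * y * r0⁻¹ = y := by
      calc r0 * y * r0⁻¹ = vv S * (S.ψ bF * y * (S.ψ bF)⁻¹) * (vv S)⁻¹ := by rw [hr0]; group
        _ = (vv S * y * (vv S)⁻¹)⁻¹ := by rw [h2]; group
        _ = y := by rw [h1, inv_inv]
    exact mul_inv_eq_iff_eq_mul.1 e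

/-- The centralizer of an element of order three, up to conjugation. -/
theorem cent_three_elt {r : G} (hr : r ^ 3 = 1) (hr1 : r ≠ 1) : ∃ n : G,
    (∀ y : G, y * r = r * y → n * y * n⁻¹ * S.ψ zF = S.ψ zF * (n * y * n⁻¹)) ∨
    (∀ y : G, y * r = r * y →
      n * y * n⁻¹ * S.ψ (zF * dF) = S.ψ (zF * dF) * (n * y * n⁻¹)) := by
  haveI := Fact.mk Nat.prime_three
  have ho : orderOf r = 3 ^ 1 := by rw [pow_one]; exact orderOf_eq_prime hr hr1
  obtain ⟨n, hn⟩ := conj_into_D S ho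
  obtain ⟨i, j, h⟩ := S.mem_D_iff.1 hn
  have pw : ∀ (k : ℕ) {u : KF}, (zF ^ (i : ℕ) * dF ^ (j : ℕ)) ^ k = u → ∀ y : G, y * r = r * y →
      n * y * n⁻¹ * S.ψ u = S.ψ u * (n * y * n⁻¹) := fun k u hu y hy => by
    have h1 : Commute (n * y * n⁻¹) (S.ψ (zF ^ (i : ℕ) * dF ^ (j : ℕ))) := conj_comm h hy
    rw [← hu, map_pow]
    exact (h1.pow_right k).eq
  have hne : ¬(i = 0 ∧ j = 0) := by
    rintro ⟨rfl, rfl⟩
    rw [Fin.val_zero, pow_zero, pow_zero, mul_one, map_one, conj_eq_one_iff] at h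
    exact hr1 h
  have hd : ∀ y : G, n * y * n⁻¹ * S.ψ dF = S.ψ dF * (n * y * n⁻¹) →
      S.g⁻¹ * n * y * (S.g⁻¹ * n)⁻¹ * S.ψ zF = S.ψ zF * (S.g⁻¹ * n * y * (S.g⁻¹ * n)⁻¹) := by
    intro y hy
    rw [show S.g⁻¹ * n * y * (S.g⁻¹ * n)⁻¹ = S.g⁻¹ * (n * y * n⁻¹) * S.g by group]
    exact unconj_comm S.g_z hy
  have hf : ∀ y : G, n * y * n⁻¹ * S.ψ (zF * dF⁻¹) = S.ψ (zF * dF⁻¹) * (n * y * n⁻¹) →
      S.ψ fF * n * y * (S.ψ fF * n)⁻¹ * S.ψ (zF * dF) =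
        S.ψ (zF * dF) * (S.ψ fF * n * y * (S.ψ fF * n)⁻¹) := by
    intro y hy
    rw [show S.ψ fF * n * y * (S.ψ fF * n)⁻¹ = S.ψ fF * (n * y * n⁻¹) * (S.ψ fF)⁻¹ by group]
    exact conj_comm (S.map_conj (by decide +kernel)) hy
  fin_cases i <;> fin_cases j
  · exact absurd ⟨rfl, rfl⟩ hne
  · exact ⟨S.g⁻¹ * n, Or.inl fun y hy => hd y (pw 1 (by decide +kernel) y hy)⟩
  · exact ⟨S.g⁻¹ * n, Or.inl fun y hy => hd y (pw 2 (by decide +kernel) y hy)⟩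
  · exact ⟨n, Or.inl (pw 1 (by decide +kernel))⟩
  · exact ⟨n, Or.inr (pw 1 (by decide +kernel))⟩
  · exact ⟨S.ψ fF * n, Or.inr fun y hy => hf y (pw 1 (by decide +kernel) y hy)⟩
  · exact ⟨n, Or.inl (pw 2 (by decide +kernel))⟩
  · exact ⟨S.ψ fF * n, Or.inr fun y hy => hf y (pw 2 (by decide +kernel) y hy)⟩
  · exact ⟨n, Or.inr (pw 2 (by decide +kernel))⟩

theorem ech_facts : eF * cF * hF * (eF * cF * hF) = 1 ∧ eF * cF * hF ≠ 1 ∧
    eF * cF * hF = hF * eF * cF := by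
  decide +kernel

/-- An element centralised by `e, c, h` and inverted by both involutions. -/
theorem inverted_eq_one (hS : S.IsSym) {y : G} (hy : y ∈ S.K)
    (hc : y * S.ψ cF = S.ψ cF * y) (h6 : Co6 y) (hv : vv S * y * (vv S)⁻¹ = y⁻¹)
    (hb : S.ψ bF * y * (S.ψ bF)⁻¹ = y⁻¹) : y = 1 := by
  obtain ⟨r, hr3, re, rh, rc, hcomm⟩ := exists_rho S hS
  have hry := hcomm y hv hb
  have hr1 : r ≠ 1 := fun h => by
    rw [h, one_mul, inv_one, mul_one] at re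
    exact absurd (S.inj re) (by decide +kernel)
  have hj : r * S.ψ (eF * cF * hF) * r⁻¹ = S.ψ (eF * cF * hF) := by
    conv_rhs => rw [ech_facts.2.2]
    rw [map_mul, map_mul, map_mul, map_mul, ← conj_mul, ← conj_mul, re, rc, rh]
  have hjy : Commute y (S.ψ (eF * cF * hF)) := by
    obtain ⟨he, hh⟩ := (mem_K S).1 hy
    rw [map_mul, map_mul]
    exact ((show Commute y (S.ψ eF) from he).mul_right hc).mul_right hh
  obtain ⟨n, hz | hd⟩ := cent_three_elt S hr3 hr1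
  · have h1 := hz y hry.eq.symm
    have h2 := hz _ (mul_inv_eq_iff_eq_mul.1 hj).symm
    obtain ⟨k, hk⟩ := S.cent_z_le (mem_centralizer_singleton_iff.2 h1)
    obtain ⟨l, hl⟩ := S.cent_z_le (mem_centralizer_singleton_iff.2 h2)
    rw [← hk] at h1
    rw [← hl] at h2
    have hkz := S.comm_of_map h1
    have hlz := S.comm_of_map h2
    have hl2 : l * l = 1 := S.inj (by
      rw [map_mul, hl, conj_mul, ← map_mul, ech_facts.1, map_one, mul_one, mul_inv_cancel])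
    have hkl : l * k = k * l := S.inj (by
      rw [map_mul, map_mul, hl, hk, conj_mul, conj_mul, hjy.eq])
    obtain ⟨k5, -, -, k60⟩ := sym_three_fix k.1 (congrArg Prod.fst hkz)
    have h60 : k ^ 60 = 1 := Prod.ext (by rw [Prod.pow_fst]; exact k60)
      (by rw [Prod.pow_snd]; exact sym_five_sixty _)
    have hk6 : Co6 (S.ψ k) := hk ▸ h6.conj n
    have h5 : k ^ 5 = 1 := by
      refine S.inj ?_
      rw [map_pow, map_one, ← orderOf_dvd_iff_pow_eq_one]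
      have : orderOf (S.ψ k) ∣ 12 * 5 := orderOf_dvd_of_pow_eq_one (by
        rw [← map_pow, show (12 * 5 : ℕ) = 60 from rfl, h60, map_one])
      exact (hk6.pow_right 2 |>.coprime_dvd_right (by norm_num : 12 ∣ 6 ^ 2)).dvd_of_dvd_mul_left this
    have hk1 : k.1 = 1 := k5 (congrArg Prod.fst h5)
    have hk2 : k.2 = 1 := by
      by_contra hne
      have hl' : l.2 = 1 := five_involution k.2 (congrArg Prod.snd h5) hne l.2
        (congrArg Prod.snd hl2) (congrArg Prod.snd hkl)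
      have hl'' : l.1 = 1 := (sym_three_fix l.1 (congrArg Prod.fst hlz)).2.1 (congrArg Prod.fst hl2)
      rw [show l = 1 from Prod.ext hl'' hl', map_one, eq_comm, conj_eq_one_iff] at hl
      exact ech_facts.2.1 (S.inj (hl.trans (map_one _).symm))
    rw [show k = 1 from Prod.ext hk1 hk2, map_one, eq_comm, conj_eq_one_iff] at hk
    exact hk
  · have h1 := hd y hry.eq.symm
    rw [map_mul] at h1
    have hm := orderOf_dvd_natCard
      (⟨_, mem_centralizer_singleton_iff.2 h1⟩ : centralizer ({S.ψ zF * S.ψ dF} : Set G))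
    rw [← Subgroup.orderOf_coe, S.card_y] at hm
    have := (h6.conj n).eq_one (orderOf_dvd_iff_pow_eq_one.1 hm) (fun p hp hd' => by
      rcases hp.dvd_mul.1 (show p ∣ 12 * 3 from hd') with h | h
      · exact twelve_primes p hp h
      · exact Or.inr ((Nat.prime_dvd_prime_iff_eq hp Nat.prime_three).1 h))
    exact conj_eq_one_iff.1 this

end CfsgLib.SEightThree.KStruct
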