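import Cfsg.Agent.Lib.SEightThree.KStruct.Basic

/-!
`K` has no normal two-subgroup outside `Z` and, in the solvable case, is of order twenty-four.
-/

set_option autoImplicit false
set_option linter.style.haveILetI false
set_option linter.unusedSectionVars false
set_option linter.unusedSimpArgs false
set_option maxRecDepth 100000

namespace CfsgLib.SEightThree.KStruct

open Subgroup Equiv

universe u

theorem list_facts :
    (cF * hF = hF * cF ∧ wF * eF = eF * wF ∧ wF * hF = hF * wF ∧ wF * wF = 1 ∧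
      tF * tF = 1 ∧ cF * cF = 1) ∧
    (∀ (i i' : Fin 3) (j j' p q : Fin 2),
      (xF ^ (i : ℕ) * tF ^ (j : ℕ))⁻¹ * (xF ^ (i' : ℕ) * tF ^ (j' : ℕ)) =
        eF ^ (p : ℕ) * hF ^ (q : ℕ) → i = i' ∧ j = j') := by
  decide +kernel

variable {G : Type u} [Group G] (S : Setup G) [Finite G]

/-- A two-element killed by an exponent coprime to two. -/
theorem two_eq_one {N : Subgroup G} (hN2 : IsPGroup 2 N) {w : G} (hw : w ∈ N) (h3 : w ^ 3 = 1) :
    w = 1 := by
  obtain ⟨m, hm⟩ := hN2 ⟨w, hw⟩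
  have h1 : w ^ 2 ^ m = 1 := congrArg Subtype.val hm
  have hg := pow_gcd_eq_one.2 ⟨h1, h3⟩
  rwa [show Nat.gcd (2 ^ m) 3 = 1 from Nat.Coprime.pow_left m (by norm_num : Nat.Coprime 2 3),
    pow_one] at hg

/-- A normal two-subgroup of `K` invariant under `v` lies in `Z`. -/
theorem invariant_two_le (hS : S.IsSym) (hW : centralizer (S.V : Set G) ≤ S.ψ.range)
    {N : Subgroup G} (hNK : N ≤ S.K) (hn : ∀ k ∈ S.K, ∀ y ∈ N, k * y * k⁻¹ ∈ N)
    (hN2 : IsPGroup 2 N) (hZ : S.Z ≤ N) (hv : ∀ y ∈ N, vv S * y * (vv S)⁻¹ ∈ N) : N ≤ S.Z := by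
  obtain ⟨hv2, hve, hvh, hvc, hvx⟩ := vv_facts S hS
  set x := S.ψ xF with hxdef
  have hxK : x ∈ S.K := x_mem_K S
  -- the fixed elements
  have fixed : ∀ y ∈ N, vv S * y * (vv S)⁻¹ = y → y ∈ S.Z := by
    intro y hy hf
    obtain ⟨k, hk, hc, hh, hb⟩ := fix_vv S hS hW (hNK hy) hf
    obtain ⟨h1, h2, -⟩ := cent_dihedral k hc hh hb
    obtain ⟨e1, e2, e3, e4⟩ := eta_conj S hS
    have hcomm : eta S * S.ψ (k * zF * k⁻¹ * zF⁻¹) * (eta S)⁻¹ = y * (x * y⁻¹ * x⁻¹) := by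
      rw [← hk, hxdef, ← e4, map_mul, map_mul, map_mul, map_inv, map_inv]
      group
    have hmem : y * (x * y⁻¹ * x⁻¹) ∈ N := mul_mem hy (hn x hxK _ (inv_mem hy))
    rw [← hcomm] at hmem
    have h0 := two_eq_one hN2 hmem
      (by rw [conj_pow, ← map_pow, h1, map_one, mul_one, mul_inv_cancel])
    rw [conj_eq_one_iff, ← map_one S.ψ] at h0
    have hkz : k * zF = zF * k := mul_inv_eq_iff_eq_mul.1 (mul_inv_eq_one.1 (S.inj h0))
    obtain ⟨-, hsq, hlist⟩ := h2 hkz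
    have hy2 : y * y = 1 := two_eq_one hN2 (mul_mem hy hy) (by
      rw [← hk, conj_mul, ← map_mul, conj_pow, ← map_pow, hsq, map_one, mul_one, mul_inv_cancel])
    rw [← hk, conj_mul, conj_eq_one_iff, ← map_mul, ← map_one S.ψ] at hy2
    rcases hlist (S.inj hy2) with rfl | rfl
    · rw [← hk, map_one, mul_one, mul_inv_cancel]; exact one_mem _
    · rw [← hk, map_mul, ← conj_mul, e1, e2]; exact mul_mem (e_mem_Z S) (h_mem_Z S)
  -- the elements fixed modulo `Z`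
  have fixmod : ∀ y ∈ N, ∀ ζ ∈ S.Z, vv S * y * (vv S)⁻¹ = y * ζ → y ∈ S.Z := by
    intro y hy ζ hζ hf
    have hyK := hNK hy
    by_cases hsym : vv S * ζ * (vv S)⁻¹ = ζ
    · obtain ⟨p, q, rfl⟩ := (mem_Z S).1 hζ
      have hpq : ∀ {a b : Fin 2}, a = p → b = q →
          S.ψ (eF ^ (a : ℕ) * hF ^ (b : ℕ)) = S.ψ (eF ^ (p : ℕ) * hF ^ (q : ℕ)) := by
        rintro a b rfl rfl; rfl
      rw [map_mul, map_pow, map_pow, ← conj_mul, ← conj_pow, ← conj_pow, hve, hvh] at hsym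
      fin_cases p <;> fin_cases q
      · exact fixed y hy (by rw [hf]; simp)
      · simp only [Fin.zero_eta, Fin.val_zero, pow_zero, one_mul, Fin.mk_one, Fin.val_one,
          pow_one] at hsym
        exact absurd (S.inj hsym) (by decide +kernel)
      · simp only [Fin.zero_eta, Fin.val_zero, pow_zero, mul_one, Fin.mk_one, Fin.val_one,
          pow_one] at hsym
        exact absurd (S.inj hsym) (by decide +kernel)
      · simp only [Fin.mk_one, Fin.val_one, pow_one] at hf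
        rw [map_mul] at hf
        have hq : vv S * (y * S.ψ eF) * (vv S)⁻¹ = y * S.ψ eF := by
          rw [← conj_mul, hf, hve]
          calc y * (S.ψ eF * S.ψ hF) * S.ψ hF = y * S.ψ eF * (S.ψ hF * S.ψ hF) := by group
            _ = _ := by rw [psi_sq S rel_facts.1.2.1, mul_one]
        exact (mul_mem_cancel_right (e_mem_Z S)).1 (fixed _ (mul_mem hy (hZ (e_mem_Z S))) hq)
    · -- `ζ` is moved
      set y' := x * y * x⁻¹ with hy'
      have hy'N : y' ∈ N := hn x hxK y hy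
      have hcomb : ∀ w ∈ N, vv S * w * (vv S)⁻¹ = w * ζ →
          x * w * x⁻¹ ∈ N ∧ vv S * (x * w * x⁻¹) * (vv S)⁻¹ = x * w * x⁻¹ * ζ ∧
            w * (x * w * x⁻¹) ∈ S.Z := by
        intro w hw hwf
        have h1 : vv S * (x * w * x⁻¹) * (vv S)⁻¹ = x * w * x⁻¹ * ζ := by
          calc vv S * (x * w * x⁻¹) * (vv S)⁻¹
              = (vv S * x * (vv S)⁻¹) * (vv S * w * (vv S)⁻¹) * (vv S * x * (vv S)⁻¹)⁻¹ := by group
            _ = x * (w * ζ) * x⁻¹ := by rw [hvx, hwf]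
            _ = x * w * (ζ * x⁻¹) := by group
            _ = x * w * (x⁻¹ * ζ) := by rw [((Z_comm S hζ hxK).inv_left).eq]
            _ = _ := by group
        refine ⟨hn x hxK w hw, h1, fixed _ (mul_mem hw (hn x hxK w hw)) ?_⟩
        rw [← conj_mul, hwf, h1]
        calc w * ζ * (x * w * x⁻¹ * ζ) = w * (ζ * (x * w * x⁻¹)) * ζ := by group
          _ = w * (x * w * x⁻¹ * ζ) * ζ := by rw [(Z_comm S hζ (hNK (hn x hxK w hw))).eq]
          _ = w * (x * w * x⁻¹) * (ζ * ζ) := by group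
          _ = _ := by rw [Z_sq S hζ, mul_one]
      obtain ⟨m1, f1, z1⟩ := hcomb y hy hf
      obtain ⟨m2, f2, z2⟩ := hcomb _ m1 f1
      obtain ⟨m3, f3, z3⟩ := hcomb _ m2 f2
      have hx3 : x * (x * (x * y * x⁻¹) * x⁻¹) * x⁻¹ = y := by
        have h3 : x * x * x = 1 := by rw [← pow_two, ← pow_succ]; exact x_cube S
        calc x * (x * (x * y * x⁻¹) * x⁻¹) * x⁻¹ = (x * x * x) * y * (x * x * x)⁻¹ := by group
          _ = y := by rw [h3]; group
      rw [hx3] at z3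
      set y2 := x * (x * y * x⁻¹) * x⁻¹
      -- `y y₁`, `y₁ y₂`, `y₂ y` lie in `Z`
      have hyy1 : y⁻¹ * (x * y * x⁻¹) ∈ S.Z := by
        have e : y⁻¹ * (x * y * x⁻¹) =
            y⁻¹ * (x * y * x⁻¹ * y2) * y * (y2 * y)⁻¹ := by group
        rw [e, show y⁻¹ * (x * y * x⁻¹ * y2) * y = x * y * x⁻¹ * y2 from by
          rw [mul_assoc, ← (Z_comm S z2 hyK).eq, ← mul_assoc, inv_mul_cancel, one_mul]]
        exact mul_mem z2 (inv_mem z3)
      have hζ' : y * x⁻¹ * y⁻¹ * x = y⁻¹ * (x * y * x⁻¹) := by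
        have h1 : y * (y⁻¹ * (x * y * x⁻¹)) * y⁻¹ = y⁻¹ * (x * y * x⁻¹) := by
          rw [(Z_comm S hyy1 hyK).eq, mul_inv_cancel_right]
        have h2 : x⁻¹ * (y⁻¹ * (x * y * x⁻¹)) * x = y⁻¹ * (x * y * x⁻¹) := by
          rw [mul_assoc, ← (Z_comm S hyy1 hxK).eq, ← mul_assoc, inv_mul_cancel, one_mul]
        conv_rhs => rw [← h2, ← h1]
        group
      have hxy : y * x = x * y := by
        refine comm_x_mod S (inv_mem hyy1) ?_
        rw [← hxdef, ← hζ']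
        group
      obtain ⟨i, ζ', hζ', hyi⟩ := cent_x S hS hyK hxy
      rw [hyi] at hy ⊢
      have hxi : x ^ (i : ℕ) = 1 := two_eq_one hN2
        ((mul_mem_cancel_right (hZ hζ')).1 hy)
        (by rw [← pow_mul, mul_comm, pow_mul, hxdef, x_cube, one_pow])
      rw [← hxdef, hxi, one_mul]
      exact hζ'
  -- an involution on the cosets fixes only one
  haveI := Z_normal S
  haveI hZn : (S.Z.subgroupOf N).Normal := by
    refine ⟨fun n hn' k => ?_⟩
    rw [mem_subgroupOf] at hn' ⊢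
    rw [Subgroup.coe_mul, Subgroup.coe_mul, Subgroup.coe_inv, (Z_comm S hn' (hNK k.2)).eq,
      mul_inv_cancel_right]
    exact hn'
  let σ : N →* N :=
    { toFun := fun y => ⟨vv S * (y : G) * (vv S)⁻¹, hv _ y.2⟩
      map_one' := Subtype.ext (by simp)
      map_mul' := fun a b => Subtype.ext (by simp) }
  have hσZ : S.Z.subgroupOf N ≤ (S.Z.subgroupOf N).comap σ := by
    intro y hy
    rw [mem_subgroupOf] at hy
    obtain ⟨p, q, hpq⟩ := (mem_Z S).1 hy
    show vv S * (y : G) * (vv S)⁻¹ ∈ S.Z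
    rw [hpq, map_mul, map_pow, map_pow, ← conj_mul, ← conj_pow, ← conj_pow, hve, hvh]
    exact mul_mem (pow_mem (h_mem_Z S) _) (pow_mem (e_mem_Z S) _)
  set B := N ⧸ S.Z.subgroupOf N
  let σb : B →* B := QuotientGroup.map _ _ σ hσZ
  have hvi : (vv S)⁻¹ = vv S := inv_eq_of_mul_eq_one_right hv2
  have hσσ : ∀ b : B, σb (σb b) = b := by
    intro b
    obtain ⟨y, rfl⟩ := QuotientGroup.mk'_surjective _ b
    show ((σ (σ y) : N) : B) = (y : B)
    refine congrArg _ (Subtype.ext ?_)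
    show vv S * (vv S * (y : G) * (vv S)⁻¹) * (vv S)⁻¹ = y
    rw [hvi, mul_assoc (vv S) (y : G), ← mul_assoc (vv S) (vv S), hv2, one_mul, mul_assoc, hv2,
      mul_one]
  have hfix : ∀ b : B, σb b = b → b = 1 := by
    intro b hb
    obtain ⟨y, rfl⟩ := QuotientGroup.mk'_surjective _ b
    have hb' : ((σ y : N) : B) = (y : B) := hb
    have hmem := QuotientGroup.eq.1 hb'.symm
    rw [mem_subgroupOf] at hmem
    exact (QuotientGroup.eq_one_iff y).2 (fixmod _ y.2 _ hmem (mul_inv_cancel_left _ _).symm)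
  by_contra hle
  haveI : Fintype B := Fintype.ofFinite B
  haveI := Fact.mk Nat.prime_two
  have hB : 2 ∣ Fintype.card B := by
    obtain ⟨m, hm⟩ := IsPGroup.iff_card.1 (hN2.to_quotient (S.Z.subgroupOf N))
    rw [← Nat.card_eq_fintype_card, hm]
    refine dvd_pow_self 2 (fun h0 => hle fun y hy => ?_)
    rw [h0, pow_zero] at hm
    haveI : Subsingleton B := (Nat.card_eq_one_iff_unique.1 hm).1
    exact Subgroup.mem_subgroupOf.1 ((QuotientGroup.eq_one_iff (N := S.Z.subgroupOf N)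
      (⟨y, hy⟩ : N)).1 (Subsingleton.elim _ _))
  let e : Equiv.Perm B := ⟨σb, σb, hσσ, hσσ⟩
  obtain ⟨b, hb, hb1⟩ := Equiv.Perm.exists_fixed_point_of_prime' (p := 2) (n := 1) hB (σ := e)
    (by rw [pow_one, pow_two]; exact Equiv.ext hσσ) (a := 1) (map_one σb)
  exact hb1 (hfix b hb)

/-- A normal two-subgroup of `K` lies in `Z`. -/
theorem normal_two_le (hS : S.IsSym) (hW : centralizer (S.V : Set G) ≤ S.ψ.range)
    {N : Subgroup G} (hNK : N ≤ S.K) (hn : ∀ k ∈ S.K, ∀ y ∈ N, k * y * k⁻¹ ∈ N)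
    (hN2 : IsPGroup 2 N) : N ≤ S.Z := by
  obtain ⟨hv2, hve, hvh, -, -⟩ := vv_facts S hS
  have hvi : (vv S)⁻¹ = vv S := inv_eq_of_mul_eq_one_right hv2
  have hvK : ∀ y ∈ S.K, vv S * y * (vv S)⁻¹ ∈ S.K := fun y hy => (mem_K S).2
    ⟨conj_comm hvh ((mem_K S).1 hy).2, conj_comm hve ((mem_K S).1 hy).1⟩
  set Nv := N.map (MulAut.conj (vv S)).toMonoidHom with hNv
  have hNvK : Nv ≤ S.K := by
    rintro _ ⟨y, hy, rfl⟩
    exact hvK y (hNK hy)
  have hnv : ∀ k ∈ S.K, ∀ y ∈ Nv, k * y * k⁻¹ ∈ Nv := by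
    rintro k hk _ ⟨y, hy, rfl⟩
    refine ⟨_, hn (vv S * k * (vv S)⁻¹) (hvK k hk) y hy, ?_⟩
    show vv S * (vv S * k * (vv S)⁻¹ * y * (vv S * k * (vv S)⁻¹)⁻¹) * (vv S)⁻¹ =
      k * (vv S * y * (vv S)⁻¹) * k⁻¹
    rw [hvi]
    calc vv S * (vv S * k * vv S * y * (vv S * k * vv S)⁻¹) * vv S
        = (vv S * vv S) * k * vv S * y * (vv S)⁻¹ * k⁻¹ * ((vv S)⁻¹ * vv S) := by group
      _ = _ := by rw [hv2, hvi, hv2]; group
  set M := S.Z ⊔ (N ⊔ Nv) with hM
  have hMK : M ≤ S.K := sup_le (Z_le_K S) (sup_le hNK hNvK)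
  refine le_trans (le_trans le_sup_left le_sup_right) (invariant_two_le S hS hW (N := M) hMK ?_ ?_
    le_sup_left ?_)
  · intro k hk y hy
    have hle : M.map (MulAut.conj k).toMonoidHom ≤ M := by
      rw [hM, Subgroup.map_sup, Subgroup.map_sup]
      refine sup_le_sup ?_ (sup_le_sup ?_ ?_) <;> rintro _ ⟨w, hw, rfl⟩
      · show k * w * k⁻¹ ∈ S.Z
        rw [(Z_comm S hw hk).eq, mul_inv_cancel_right]
        exact hw
      · exact hn k hk w hw
      · exact hnv k hk w hw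
    exact hle ⟨y, hy, rfl⟩
  · have hZ2 : IsPGroup 2 S.Z := fun w => ⟨1, Subtype.ext (by
      show (w : G) ^ 2 ^ 1 = 1
      rw [pow_one, pow_two]; exact Z_sq S w.2)⟩
    have hn1 : N ⊔ Nv ≤ S.K := sup_le hNK hNvK
    have h2 : IsPGroup 2 (N ⊔ Nv : Subgroup G) :=
      hN2.to_sup_of_normal_right' (hN2.map _) fun y hy => by
        refine Subgroup.mem_normalizer_fintype fun w hw => hnv y (hNK hy) w hw
    exact hZ2.to_sup_of_normal_left' h2 fun y hy => by
      refine Subgroup.mem_normalizer_fintype fun w hw => ?_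
      show y * w * y⁻¹ ∈ S.Z
      rw [(Z_comm S hw (hn1 hy)).eq, mul_inv_cancel_right]
      exact hw
  · intro y hy
    have hle : M.map (MulAut.conj (vv S)).toMonoidHom ≤ M := by
      rw [hM, Subgroup.map_sup, Subgroup.map_sup, sup_comm N Nv]
      refine sup_le_sup ?_ (sup_le_sup le_rfl ?_) <;> rintro _ ⟨w, hw, rfl⟩
      · show vv S * w * (vv S)⁻¹ ∈ S.Z
        obtain ⟨p, q, rfl⟩ := (mem_Z S).1 hw
        rw [map_mul, map_pow, map_pow, ← conj_mul, ← conj_pow, ← conj_pow, hve, hvh]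
        exact mul_mem (pow_mem (h_mem_Z S) _) (pow_mem (e_mem_Z S) _)
      · obtain ⟨w', hw', rfl⟩ := hw
        show vv S * (vv S * w' * (vv S)⁻¹) * (vv S)⁻¹ ∈ N
        rw [hvi, mul_assoc (vv S) w', ← mul_assoc (vv S) (vv S), hv2, one_mul, mul_assoc, hv2,
          mul_one]
        exact hw'
    exact hle ⟨y, hy, rfl⟩

/-- `K` modulo `Z`. -/
abbrev Kb : Type u := S.K ⧸ S.Z.subgroupOf S.K

attribute [local instance] Z_normal

/-- A normal two-subgroup of the quotient is trivial. -/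
theorem quot_two_eq_bot (hS : S.IsSym) (hW : centralizer (S.V : Set G) ≤ S.ψ.range)
    (P : Subgroup (Kb S)) (hPn : P.Normal) (hP : IsPGroup 2 P) : P = ⊥ := by
  set N := (P.comap (QuotientGroup.mk' (S.Z.subgroupOf S.K))).map S.K.subtype with hN
  have h2 : IsPGroup 2 N := by
    refine IsPGroup.map ?_ _
    refine hP.comap_of_ker_isPGroup _ ?_
    rw [QuotientGroup.ker_mk']
    exact fun w => ⟨1, Subtype.ext (Subtype.ext (by
      show ((w : S.K) : G) ^ 2 ^ 1 = 1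
      rw [pow_one, pow_two]; exact Z_sq S w.2))⟩
  have hle := normal_two_le S hS hW (N := N) (map_subtype_le _) (by
    rintro k hk _ ⟨w, hw, rfl⟩
    exact ⟨⟨k, hk⟩ * w * ⟨k, hk⟩⁻¹, (hPn.comap _).conj_mem w hw _, rfl⟩) h2
  rw [Subgroup.eq_bot_iff_forall]
  intro b hb
  obtain ⟨y, rfl⟩ := QuotientGroup.mk'_surjective _ b
  exact (QuotientGroup.eq_one_iff y).2 (hle ⟨y, hb, rfl⟩)

theorem t_mem_K : S.ψ tF ∈ S.K :=
  psi_mem_K S rel_facts.2.1.2.2.2.1.symm rel_facts.2.1.2.2.2.2.1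

theorem c_mem_K : S.ψ cF ∈ S.K :=
  psi_mem_K S rel_facts.2.1.2.1.symm rel_facts.2.1.2.2.1

theorem c_eq : S.ψ cF = S.ψ xF ^ 2 * S.ψ tF := by
  rw [← map_pow, ← map_mul]
  exact congrArg S.ψ (by decide +kernel)

theorem tct_eq : S.ψ tF * S.ψ cF * S.ψ tF = S.ψ xF * S.ψ tF := by
  rw [← map_mul, ← map_mul, ← map_mul]
  exact congrArg S.ψ (by decide +kernel)

/-- `a` lies outside the group generated by `Z`, `x` and `t`. -/
theorem a_notMem (hS : S.IsSym) (i : Fin 3) (j : Fin 2) {ζ : G} (hζ : ζ ∈ S.Z) :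
    S.φ (sF 0) ≠ S.ψ xF ^ (i : ℕ) * S.ψ tF ^ (j : ℕ) * ζ := by
  intro h
  obtain ⟨p, q, rfl⟩ := (mem_Z S).1 hζ
  rw [← map_pow, ← map_pow, ← map_mul, ← map_mul] at h
  have hf := (a_facts S hS).2.1
  rw [h] at hf
  have hmem := coset_fix i j p q (S.comm_of_map hf)
  obtain ⟨n1, n2, n3, n4⟩ := phi_facts.2
  simp only [List.mem_cons, List.not_mem_nil, or_false] at hmem
  rcases hmem with e | e | e | e <;> rw [e] at h
  · exact n1 (S.φ_inj (by rw [h, map_one, map_one]))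
  · exact n2 (S.φ_inj (by rw [h, e_phi S hS]))
  · exact n3 (S.φ_inj (by rw [h, S.φ_tF]))
  · exact n4 (S.φ_inj (by rw [h, map_mul, map_mul, e_phi S hS, S.φ_tF]))

/-- An involution fixing no nontrivial element of order prime to six inverts all of them. -/
theorem inverts (Nb : Subgroup (Kb S)) (hNn : Nb.Normal) (hN6 : (Nat.card Nb).Coprime 6)
    (hi : Nb.index ∣ 6) {w : G} (hw2 : w * w = 1)
    (hwK : ∀ y ∈ S.K, w * y * w⁻¹ ∈ S.K) (hwZ : ∀ ζ ∈ S.Z, w * ζ * w⁻¹ ∈ S.Z)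
    (hfix : ∀ y ∈ S.K, Co6 y → w * y * w⁻¹ = y → y = 1) :
    ∀ y ∈ S.K, Co6 y → w * y * w⁻¹ = y⁻¹ := by
  have hwi : w⁻¹ = w := inv_eq_of_mul_eq_one_right hw2
  have hmem : ∀ b : Kb S, (orderOf b).Coprime 6 → b ∈ Nb := by
    intro b hb
    have h2 : ((b : Kb S) : Kb S ⧸ Nb) ^ 6 = 1 := by
      obtain ⟨d, hd⟩ := hi
      rw [hd, pow_mul, Subgroup.index_eq_card, pow_card_eq_one', one_pow]
    refine (QuotientGroup.eq_one_iff b).1 (orderOf_eq_one_iff.1 ?_)
    exact Nat.eq_one_of_dvd_coprimes hb (orderOf_map_dvd (QuotientGroup.mk' Nb) b)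
      (orderOf_dvd_of_pow_eq_one h2)
  have hord : ∀ b : Nb, (orderOf (b : Kb S)).Coprime 6 := fun b => by
    rw [Subgroup.orderOf_coe]
    exact hN6.coprime_dvd_left (orderOf_dvd_natCard b)
  let σ : S.K →* S.K :=
    { toFun := fun y => ⟨w * (y : G) * w⁻¹, hwK _ y.2⟩
      map_one' := Subtype.ext (by simp)
      map_mul' := fun a b => Subtype.ext (by simp) }
  let σb : Kb S →* Kb S := QuotientGroup.map _ _ σ (fun y hy => hwZ _ hy)
  let φ : Nb →* Nb := (σb.comp Nb.subtype).codRestrict Nb fun b =>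
    hmem _ ((hord b).coprime_dvd_left (orderOf_map_dvd σb (b : Kb S)))
  have hfpf : MonoidHom.FixedPointFree φ := by
    intro b hb
    obtain ⟨y, hy⟩ := QuotientGroup.mk'_surjective _ (b : Kb S)
    have hb' : ((σ y : S.K) : Kb S) = (y : Kb S) := by
      have h1 : σb (b : Kb S) = b := congrArg Subtype.val hb
      rw [← hy] at h1
      exact h1
    have hζ := QuotientGroup.eq.1 hb'.symm
    rw [mem_subgroupOf] at hζ
    set ζ := (((y⁻¹ * σ y) : S.K) : G)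
    have hwy : w * (y : G) * w⁻¹ = y * ζ := (mul_inv_cancel_left _ _).symm
    set o := orderOf (b : Kb S)
    have ho6 : o.Coprime 6 := hord b
    have hyo : (y : G) ^ o ∈ S.Z := by
      have : (((y ^ o : S.K)) : Kb S) = 1 := by
        rw [QuotientGroup.mk_pow, show (y : Kb S) = (b : Kb S) from hy, pow_orderOf_eq_one]
      exact Subgroup.mem_subgroupOf.1
        ((QuotientGroup.eq_one_iff (N := S.Z.subgroupOf S.K) (y ^ o)).1 this)
    have hsq : w * ((y : G) ^ 2) * w⁻¹ = (y : G) ^ 2 := by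
      rw [← conj_pow, hwy, (Z_comm S hζ y.2).mul_pow, pow_two ζ, Z_sq S hζ, mul_one]
    have h6 : Co6 ((y : G) ^ 2) :=
      ho6.coprime_dvd_left (orderOf_dvd_of_pow_eq_one (by
        rw [← pow_mul, mul_comm, pow_mul, pow_two]; exact Z_sq S hyo))
    have hy2 := hfix _ (pow_mem y.2 2) h6 hsq
    refine Subtype.ext (orderOf_eq_one_iff.1 ?_)
    refine Nat.eq_one_of_dvd_coprimes ho6 dvd_rfl
      ((orderOf_dvd_of_pow_eq_one ?_).trans (by norm_num : 2 ∣ 6))
    rw [← hy, ← map_pow, show y ^ 2 = 1 from Subtype.ext hy2, map_one]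
  have hinv : Function.Involutive φ := fun b => by
    obtain ⟨y, hy⟩ := QuotientGroup.mk'_surjective _ (b : Kb S)
    refine Subtype.ext ?_
    show σb (σb (b : Kb S)) = b
    rw [← hy]
    show ((σ (σ y) : S.K) : Kb S) = (y : Kb S)
    refine congrArg _ (Subtype.ext ?_)
    show w * (w * (y : G) * w⁻¹) * w⁻¹ = y
    rw [hwi, mul_assoc w (y : G), ← mul_assoc w w, hw2, one_mul, mul_assoc, hw2, mul_one]
  intro y hy h6
  set yK : S.K := ⟨y, hy⟩
  have hb : (yK : Kb S) ∈ Nb := hmem _ (Nat.Coprime.coprime_dvd_left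
    ((orderOf_map_dvd (QuotientGroup.mk' (S.Z.subgroupOf S.K)) yK).trans
      (dvd_of_eq (Subgroup.orderOf_coe yK).symm)) h6)
  have h1 : ((σ yK : S.K) : Kb S) = ((yK⁻¹ : S.K) : Kb S) :=
    congrArg Subtype.val (congrFun (hfpf.coe_eq_inv_of_involutive hinv) ⟨_, hb⟩)
  have hζ := QuotientGroup.eq.1 h1.symm
  rw [mem_subgroupOf] at hζ
  have hζ' : y * (w * y * w⁻¹) ∈ S.Z := by simpa [σ, yK] using hζ
  have h2 : w * y * w⁻¹ = y⁻¹ * (y * (w * y * w⁻¹)) := (inv_mul_cancel_left _ _).symm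
  have h3 := congrArg (· ^ orderOf y) h2
  simp only [conj_pow, pow_orderOf_eq_one, mul_one, mul_inv_cancel,
    (Z_comm S hζ' (inv_mem hy)).mul_pow, inv_pow, inv_one, one_mul] at h3
  rw [Z_card_two_pow S hζ' h6.odd h3.symm, mul_one] at h2
  exact h2

/-- In the solvable case the elements of order prime to six are trivial. -/
theorem co6_eq_one (hS : S.IsSym) (hW : centralizer (S.V : Set G) ≤ S.ψ.range)
    (Nb : Subgroup (Kb S)) (hNn : Nb.Normal) (hN6 : (Nat.card Nb).Coprime 6) (hi : Nb.index ∣ 6) :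
    ∀ y ∈ S.K, Co6 y → y = 1 := by
  obtain ⟨hv2, hve, hvh, hvc, -⟩ := vv_facts S hS
  obtain ⟨⟨-, hwe, hwh, hw2, ht2, hc2⟩, -⟩ := list_facts
  have hvK : ∀ y ∈ S.K, vv S * y * (vv S)⁻¹ ∈ S.K := fun y hy => (mem_K S).2
    ⟨conj_comm hvh ((mem_K S).1 hy).2, conj_comm hve ((mem_K S).1 hy).1⟩
  have hvinv := inverts S Nb hNn hN6 hi hv2 hvK (fun ζ hζ => by
      obtain ⟨p, q, rfl⟩ := (mem_Z S).1 hζ
      rw [map_mul, map_pow, map_pow, ← conj_mul, ← conj_pow, ← conj_pow, hve, hvh]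
      exact mul_mem (pow_mem (h_mem_Z S) _) (pow_mem (e_mem_Z S) _))
    fun y hy h6 hf => fix_vv_eq_one S hS hW hy h6 hf
  -- `bF` on the centralizer of `c, h`
  have hbinv : ∀ y : G, y * S.ψ cF = S.ψ cF * y → y * S.ψ hF = S.ψ hF * y → Co6 y →
      S.ψ bF * y * (S.ψ bF)⁻¹ = y⁻¹ := by
    intro y hc hh h6
    have h1 := hvinv _ (push_K S hS hc hh) (h6.conj (eta S))
    have e : vv S * (eta S * y * (eta S)⁻¹) * (vv S)⁻¹ =
        eta S * (S.ψ bF * y * (S.ψ bF)⁻¹) * (eta S)⁻¹ := by rw [vv]; group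
    rw [e, conj_inv] at h1
    exact mul_left_cancel (mul_right_cancel h1)
  -- `c` fixes none
  have hcfix : ∀ y ∈ S.K, Co6 y → y * S.ψ cF = S.ψ cF * y → y = 1 := fun y hy h6 hc =>
    inverted_eq_one S hS hy hc h6 (hvinv y hy h6) (hbinv y hc ((mem_K S).1 hy).2 h6)
  have inv_of : ∀ k : KF, S.ψ k ∈ S.K → k * k = 1 →
      (∀ y ∈ S.K, Co6 y → y * S.ψ k = S.ψ k * y → y = 1) →
      ∀ y ∈ S.K, Co6 y → S.ψ k * y * (S.ψ k)⁻¹ = y⁻¹ := fun k hk hk2 hf =>
    inverts S Nb hNn hN6 hi (psi_sq S hk2)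
      (fun y hy => mul_mem (mul_mem hk hy) (inv_mem hk))
      (fun ζ hζ => by rw [(Z_comm S hζ hk).eq, mul_inv_cancel_right]; exact hζ)
      fun y hy h6 he => hf y hy h6 (mul_inv_eq_iff_eq_mul.1 he).symm
  have htfix : ∀ y ∈ S.K, Co6 y → y * S.ψ tF = S.ψ tF * y → y = 1 := by
    intro y hy h6 ht
    have hwK : S.ψ wF ∈ S.K := psi_mem_K S hwe hwh
    have h := hcfix _ (mul_mem (mul_mem hwK hy) (inv_mem hwK)) (h6.conj (S.ψ wF))
      (conj_comm (S.map_conj conj_facts.2.2.2.1.1) ht)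
    exact conj_eq_one_iff.1 h
  intro y hy h6
  have hti := inv_of tF (t_mem_K S) ht2 htfix
  have hci := inv_of cF (c_mem_K S) hc2 hcfix
  have hx : y * S.ψ xF = S.ψ xF * y := by
    refine (mul_inv_eq_iff_eq_mul.1 ?_).symm
    rw [rel_facts.2.2.1, map_mul, mul_inv_rev]
    calc S.ψ tF * S.ψ cF * y * ((S.ψ cF)⁻¹ * (S.ψ tF)⁻¹)
        = S.ψ tF * (S.ψ cF * y * (S.ψ cF)⁻¹) * (S.ψ tF)⁻¹ := by group
      _ = (S.ψ tF * y * (S.ψ tF)⁻¹)⁻¹ := by rw [hci y hy h6]; group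
      _ = y := by rw [hti y hy h6, inv_inv]
  obtain ⟨i, ζ, hζ, rfl⟩ := cent_x S hS hy hx
  refine h6.eq_one (n := 6) ?_ (fun p hp hd => twelve_primes p hp (hd.trans (by norm_num)))
  rw [(Z_comm S hζ (pow_mem (x_mem_K S) _)).mul_pow, show (6 : ℕ) = 3 * 2 from rfl,
    pow_mul, pow_mul, ← pow_mul (S.ψ xF) (i : ℕ) 3, mul_comm (i : ℕ), pow_mul, x_cube, one_pow,
    one_pow, one_mul, ← pow_mul, mul_comm 3 2, pow_mul, pow_two, Z_sq S hζ, one_pow]

/-- The nilpotent case is impossible. -/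
theorem not_nilpotent_case (hS : S.IsSym) (hW : centralizer (S.V : Set G) ≤ S.ψ.range)
    (Nb : Subgroup (Kb S)) (hNn : Nb.Normal) (hnil : Group.IsNilpotent Nb)
    (h3 : (Nat.card Nb).Coprime 3) (hi : Nb.index ∣ 6) : False := by
  haveI := Fact.mk Nat.prime_two
  haveI := hNn
  have h2 : ¬ 2 ∣ Nat.card Nb := by
    intro hd
    obtain ⟨P⟩ : Nonempty (Sylow 2 Nb) := inferInstance
    haveI := hnil
    have hPn : (P : Subgroup Nb).Normal :=
      P.normal_of_normalizerCondition Group.normalizerCondition_of_isNilpotent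
    haveI := Sylow.characteristic_of_normal P hPn
    have h := quot_two_eq_bot S hS hW ((P : Subgroup Nb).map Nb.subtype)
      (ConjAct.normal_of_characteristic_of_normal) (P.2.map _)
    rw [Subgroup.map_eq_bot_iff_of_injective _ Nb.subtype_injective] at h
    have := P.dvd_card_of_dvd_card hd
    rw [h, Subgroup.card_bot] at this
    omega
  have hN6 : (Nat.card Nb).Coprime 6 := by
    rw [show (6 : ℕ) = 2 * 3 from rfl]
    exact Nat.Coprime.mul_right ((Nat.Prime.coprime_iff_not_dvd Nat.prime_two).2 h2).symm h3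
  have hone := co6_eq_one S hS hW Nb hNn hN6 hi
  have hbot : Nb = ⊥ := by
    rw [Subgroup.eq_bot_iff_forall]
    intro b hb
    obtain ⟨y, rfl⟩ := QuotientGroup.mk'_surjective _ b
    set o := orderOf (QuotientGroup.mk' (S.Z.subgroupOf S.K) y)
    have ho : o.Coprime 6 :=
      hN6.coprime_dvd_left (Subgroup.orderOf_dvd_natCard _ hb)
    have hyo : (y : G) ^ o ∈ S.Z := Subgroup.mem_subgroupOf.1
      ((QuotientGroup.eq_one_iff (N := S.Z.subgroupOf S.K) (y ^ o)).1 (by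
        rw [QuotientGroup.mk_pow]; exact pow_orderOf_eq_one _))
    have h := hone ((y : G) ^ 2) (pow_mem y.2 2) (ho.coprime_dvd_left (orderOf_dvd_of_pow_eq_one (by
      rw [← pow_mul, mul_comm, pow_mul, pow_two]; exact Z_sq S hyo)))
    refine orderOf_eq_one_iff.1 (Nat.eq_one_of_dvd_coprimes ho dvd_rfl
      ((orderOf_dvd_of_pow_eq_one ?_).trans (by norm_num : 2 ∣ 6)))
    rw [← map_pow, show y ^ 2 = 1 from Subtype.ext h, map_one]
  rw [hbot, Subgroup.index_bot] at hi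
  let F : Fin 3 × Fin 2 → Kb S := fun p =>
    (((⟨S.ψ xF, x_mem_K S⟩ : S.K) ^ (p.1 : ℕ) * ⟨S.ψ tF, t_mem_K S⟩ ^ (p.2 : ℕ) : S.K) : Kb S)
  have hF : Function.Injective F := by
    intro p q hpq
    have hz := QuotientGroup.eq.1 hpq
    rw [mem_subgroupOf] at hz
    obtain ⟨a, b, hab⟩ := (mem_Z S).1 hz
    push_cast at hab
    rw [← map_pow, ← map_pow, ← map_pow, ← map_pow, ← map_mul, ← map_mul, ← map_inv,
      ← map_mul] at hab
    obtain ⟨e1, e2⟩ := list_facts.2 _ _ _ _ _ _ (S.inj hab)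
    exact Prod.ext e1 e2
  have hsurj := (hF.bijective_of_nat_card_le (by
    rw [Nat.card_eq_fintype_card (α := Fin 3 × Fin 2)]
    exact Nat.le_of_dvd (by norm_num) hi)).2
  obtain ⟨⟨i, j⟩, hij⟩ := hsurj ((⟨S.φ (sF 0), (a_facts S hS).1⟩ : S.K) : Kb S)
  have hz := QuotientGroup.eq.1 hij
  rw [mem_subgroupOf] at hz
  push_cast at hz
  exact a_notMem S hS i j hz (mul_inv_cancel_left _ _).symm

end CfsgLib.SEightThree.KStruct
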