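import Cfsg.Agent.Lib.Recog.MaxNorm.SmallPSL

/-!
The involutions of `PSL₂(7)` and the dihedral centralizer of one of them.
-/

set_option autoImplicit false
set_option maxRecDepth 100000
set_option linter.style.haveILetI false

namespace CfsgLib.SEightThree.KStruct

open Matrix CfsgLib.KnownB.SL2Products CfsgLib.GLTwo CfsgLib.Recog.MaxNorm

local instance fact_seven : Fact (Nat.Prime 7) := ⟨by norm_num⟩

local notation "M7" => Matrix (Fin 2) (Fin 2) (ZMod 7)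

/-- `PSL₂(7)`. -/
local notation "L7" => Matrix.ProjectiveSpecialLinearGroup (Fin 2) (ZMod 7)

/-- Entries. -/
abbrev Q4 : Type := ZMod 7 × ZMod 7 × ZMod 7 × ZMod 7

/-- Product of entries. -/
def mul4 : Q4 → Q4 → Q4
  | (a, b, c, d), (a', b', c', d') =>
    (a * a' + b * c', a * b' + b * d', c * a' + d * c', c * b' + d * d')

/-- Negative. -/
def neg4 : Q4 → Q4
  | (a, b, c, d) => (-a, -b, -c, -d)

/-- Determinant. -/
def det4 : Q4 → ZMod 7
  | (a, b, c, d) => a * d - b * c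

/-- An element of order four over the standard involution. -/
def q4 : Q4 := (2, 5, 2, 2)

/-- An involution inverting it. -/
def p4 : Q4 := (2, 3, 3, 5)

/-- The standard involution. -/
def j4 : Q4 := mul4 q4 q4

/-- The elements of the centralizer. -/
def cent4 : List Q4 :=
  [(1, 0, 0, 1), q4, j4, mul4 q4 j4, p4, mul4 p4 q4, mul4 p4 j4, mul4 p4 (mul4 q4 j4)]

theorem std_facts : det4 q4 = 1 ∧ det4 p4 = 1 ∧ mul4 p4 p4 = neg4 (1, 0, 0, 1) ∧
    mul4 p4 j4 = neg4 (mul4 j4 p4) ∧ mul4 (mul4 p4 q4) (mul4 p4 q4) = neg4 (1, 0, 0, 1) ∧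
    mul4 j4 j4 = neg4 (1, 0, 0, 1) ∧
    (j4 ≠ (1, 0, 0, 1) ∧ j4 ≠ neg4 (1, 0, 0, 1) ∧ p4 ≠ (1, 0, 0, 1) ∧ p4 ≠ neg4 (1, 0, 0, 1) ∧
      p4 ≠ j4 ∧ p4 ≠ neg4 j4) := by
  decide +kernel

theorem cent_check : ∀ a b c d : ZMod 7, det4 (a, b, c, d) = 1 →
    (mul4 (a, b, c, d) j4 = mul4 j4 (a, b, c, d) ∨
      mul4 (a, b, c, d) j4 = neg4 (mul4 j4 (a, b, c, d))) →
    (a, b, c, d) ∈ cent4 ∨ neg4 (a, b, c, d) ∈ cent4 := by
  decide +kernel

/-- Every element whose square is scalar but which is not itself scalar is conjugate to `± j4`. -/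
theorem invol_check : ∀ a b c d : ZMod 7, det4 (a, b, c, d) = 1 →
    (mul4 (a, b, c, d) (a, b, c, d) = (1, 0, 0, 1) ∨
      mul4 (a, b, c, d) (a, b, c, d) = neg4 (1, 0, 0, 1)) →
    (a, b, c, d) = (1, 0, 0, 1) ∨ (a, b, c, d) = neg4 (1, 0, 0, 1) ∨
    ∃ x y u w : ZMod 7, det4 (x, y, u, w) = 1 ∧
      (mul4 (x, y, u, w) j4 = mul4 (a, b, c, d) (x, y, u, w) ∨
        mul4 (x, y, u, w) j4 = neg4 (mul4 (a, b, c, d) (x, y, u, w))) := by
  decide +kernel

/-- The element given by entries. -/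
def sl4 (m : Q4) (h : det4 m = 1) : SpecialLinearGroup (Fin 2) (ZMod 7) :=
  ⟨!![m.1, m.2.1; m.2.2.1, m.2.2.2], by rw [Matrix.det_fin_two_of]; exact h⟩

theorem det4_mul (m n : Q4) : det4 (mul4 m n) = det4 m * det4 n := by
  obtain ⟨a, b, c, d⟩ := m; obtain ⟨a', b', c', d'⟩ := n
  simp only [det4, mul4]; ring

theorem det4_neg (m : Q4) : det4 (neg4 m) = det4 m := by
  obtain ⟨a, b, c, d⟩ := m
  simp only [det4, neg4]; ring

/-- The image in `PSL₂(7)`; the junk value is the identity. -/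
def pr4 (m : Q4) : L7 := if h : det4 m = 1 then pr (sl4 m h) else 1

theorem pr4_eq {m : Q4} (h : det4 m = 1) : pr4 m = pr (sl4 m h) := dif_pos h

theorem pr4_mul {m n : Q4} (hm : det4 m = 1) (hn : det4 n = 1) :
    pr4 (mul4 m n) = pr4 m * pr4 n := by
  rw [pr4_eq hm, pr4_eq hn, pr4_eq (by rw [det4_mul, hm, hn, mul_one]), ← map_mul]
  refine congrArg pr (Subtype.ext ?_)
  obtain ⟨a, b, c, d⟩ := m; obtain ⟨a', b', c', d'⟩ := n
  show (!![_, _; _, _] : M7) = !![a, b; c, d] * !![a', b'; c', d']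
  rw [Matrix.mul_fin_two]
  rfl

theorem pr4_neg {m : Q4} (h : det4 m = 1) : pr4 (neg4 m) = pr4 m := by
  rw [pr4_eq h, pr4_eq (by rw [det4_neg, h])]
  refine pr_eq_of_smul (c := (-1 : ZMod 7)) (Or.inr rfl) ?_
  obtain ⟨a, b, c, d⟩ := m
  ext i j
  fin_cases i <;> fin_cases j <;> simp [sl4, neg4]

theorem pr4_one : pr4 (1, 0, 0, 1) = 1 := by
  rw [pr4_eq (m := ((1, 0, 0, 1) : Q4)) (by decide), ← map_one (pr (F := ZMod 7))]
  refine congrArg pr (Subtype.ext ?_)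
  simp [sl4, Matrix.one_fin_two]

theorem pr4_surj (x : L7) : ∃ m : Q4, det4 m = 1 ∧ pr4 m = x := by
  obtain ⟨g, rfl⟩ := pr_surjective x
  have hdet := g.2
  rw [Matrix.det_fin_two] at hdet
  refine ⟨((g : M7) 0 0, (g : M7) 0 1, (g : M7) 1 0, (g : M7) 1 1), hdet, ?_⟩
  rw [pr4_eq (m := ((g : M7) 0 0, (g : M7) 0 1, (g : M7) 1 0, (g : M7) 1 1)) hdet]
  exact congrArg pr (Subtype.ext (Matrix.eta_fin_two _).symm)

theorem pr4_cases {m n : Q4} (hm : det4 m = 1) (hn : det4 n = 1) (e : pr4 m = pr4 n) :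
    m = n ∨ m = neg4 n := by
  rw [pr4_eq hm, pr4_eq hn] at e
  obtain ⟨c, hc, e⟩ := scalar_of_pr_eq e
  obtain ⟨a, b, u, d⟩ := m; obtain ⟨a', b', u', d'⟩ := n
  have h := fun i j => congrFun (congrFun e i) j
  have h00 := h 0 0; have h01 := h 0 1; have h10 := h 1 0; have h11 := h 1 1
  simp [sl4] at h00 h01 h10 h11
  rcases hc with rfl | rfl
  · left; simp [h00, h01, h10, h11]
  · right; simp [neg4, h00, h01, h10, h11]

/-- The involutions are conjugate, and the centralizer of each is dihedral of order eight. -/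
theorem psl_seven (c : L7) (hc2 : c * c = 1) (hc1 : c ≠ 1) :
    (∀ i : L7, i * i = 1 → i ≠ 1 → ∃ n : L7, n * c * n⁻¹ = i) ∧
    ∃ p q : L7, q * q = c ∧ p * p = 1 ∧ p * c = c * p ∧ p * q * (p * q) = 1 ∧ p ≠ 1 ∧ p ≠ c ∧
      ∀ k : L7, k * c = c * k →
        k ∈ [1, q, c, q * c, p, p * q, p * c, p * (q * c)] := by
  obtain ⟨hq, hp, hpp, hpj, hpq, hjj, hne⟩ := std_facts
  have hj : det4 j4 = 1 := by rw [j4, det4_mul, hq, mul_one]
  -- every involution is conjugate to the standard one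
  have hall : ∀ i : L7, i * i = 1 → i ≠ 1 → ∃ n : L7, n * pr4 j4 * n⁻¹ = i := by
    intro i hi2 hi1
    obtain ⟨⟨a, b, u, d⟩, hm, rfl⟩ := pr4_surj i
    rw [← pr4_mul hm hm, ← pr4_one] at hi2
    have h1 : det4 ((1, 0, 0, 1) : Q4) = 1 := by decide
    rcases invol_check a b u d hm (pr4_cases (by rw [det4_mul, hm, mul_one]) h1 hi2) with
      h | h | ⟨x, y, r, w, hx, h⟩
    · exact absurd (by rw [h, pr4_one]) hi1
    · exact absurd (by rw [h, pr4_neg h1, pr4_one]) hi1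
    · refine ⟨pr4 (x, y, r, w), mul_inv_eq_iff_eq_mul.2 ?_⟩
      rw [← pr4_mul hx hj, ← pr4_mul hm hx]
      rcases h with h | h <;> rw [h]
      exact pr4_neg (by rw [det4_mul, hm, hx, mul_one])
  obtain ⟨n, hn⟩ := hall c hc2 hc1
  refine ⟨fun i hi2 hi1 => ?_, n * pr4 p4 * n⁻¹, n * pr4 q4 * n⁻¹, ?_, ?_, ?_, ?_, ?_, ?_, ?_⟩
  · obtain ⟨m, hm⟩ := hall i hi2 hi1
    exact ⟨m * n⁻¹, by rw [← hn, ← hm]; group⟩
  · rw [← hn, conj_mul, ← pr4_mul hq hq]; rfl
  · rw [conj_mul, ← pr4_mul hp hp, hpp, pr4_neg (by decide), pr4_one, mul_one, mul_inv_cancel]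
  · rw [← hn, conj_mul, conj_mul, ← pr4_mul hp hj, ← pr4_mul hj hp, hpj,
      pr4_neg (by rw [det4_mul, hp, hj, mul_one])]
  · rw [conj_mul, conj_mul, ← pr4_mul hp hq,
      ← pr4_mul (by rw [det4_mul, hp, hq, mul_one]) (by rw [det4_mul, hp, hq, mul_one]), hpq,
      pr4_neg (by decide), pr4_one, mul_one, mul_inv_cancel]
  · intro e
    rw [conj_eq_one_iff, ← pr4_one] at e
    exact (pr4_cases hp (by decide) e).elim hne.2.2.1 hne.2.2.2.1
  · intro e
    rw [← hn] at e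
    exact (pr4_cases hp hj (mul_left_cancel (mul_right_cancel e))).elim hne.2.2.2.2.1
      hne.2.2.2.2.2
  · intro k hk
    obtain ⟨⟨a, b, u, d⟩, hm, hk'⟩ := pr4_surj (n⁻¹ * k * n)
    have hkj : pr4 (a, b, u, d) * pr4 j4 = pr4 j4 * pr4 (a, b, u, d) := by
      rw [hk', ← show n⁻¹ * c * n = pr4 j4 by rw [← hn]; group]
      calc n⁻¹ * k * n * (n⁻¹ * c * n) = n⁻¹ * (k * c) * n := by group
        _ = n⁻¹ * (c * k) * n := by rw [hk]
        _ = _ := by group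
    rw [← pr4_mul hm hj, ← pr4_mul hj hm] at hkj
    have hmem := cent_check a b u d hm
      (pr4_cases (by rw [det4_mul, hm, hj, mul_one]) (by rw [det4_mul, hm, hj, mul_one]) hkj)
    have key : ∀ m : Q4, m ∈ cent4 → n * pr4 m * n⁻¹ ∈
        [1, n * pr4 q4 * n⁻¹, c, n * pr4 q4 * n⁻¹ * c, n * pr4 p4 * n⁻¹,
          n * pr4 p4 * n⁻¹ * (n * pr4 q4 * n⁻¹), n * pr4 p4 * n⁻¹ * c,
          n * pr4 p4 * n⁻¹ * (n * pr4 q4 * n⁻¹ * c)] := by
      intro m hm'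
      rw [← hn]
      simp only [cent4, List.mem_cons, List.not_mem_nil, or_false, conj_mul] at hm' ⊢
      rcases hm' with rfl | rfl | rfl | rfl | rfl | rfl | rfl | rfl
      · refine Or.inl ?_
        rw [pr4_one, mul_one, mul_inv_cancel]
      · exact Or.inr (Or.inl rfl)
      · exact Or.inr (Or.inr (Or.inl rfl))
      · refine Or.inr (Or.inr (Or.inr (Or.inl ?_)))
        rw [pr4_mul hq hj]
      · exact Or.inr (Or.inr (Or.inr (Or.inr (Or.inl rfl))))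
      · refine Or.inr (Or.inr (Or.inr (Or.inr (Or.inr (Or.inl ?_)))))
        rw [pr4_mul hp hq]
      · refine Or.inr (Or.inr (Or.inr (Or.inr (Or.inr (Or.inr (Or.inl ?_))))))
        rw [pr4_mul hp hj]
      · refine Or.inr (Or.inr (Or.inr (Or.inr (Or.inr (Or.inr (Or.inr ?_))))))
        rw [pr4_mul hp (by rw [det4_mul, hq, hj, mul_one]), pr4_mul hq hj]
    have e : k = n * pr4 (a, b, u, d) * n⁻¹ := by rw [hk']; group
    rw [e]
    rcases hmem with h | h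
    · exact key _ h
    · rw [← pr4_neg hm]; exact key _ h

end CfsgLib.SEightThree.KStruct
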