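import Cfsg.Agent.Lib.SEightThree.KStruct.Core
import Cfsg.Agent.Lib.SEightThree.KStruct.Seven

/-!
The quotient of `K` is not `PSL₂(7)`: the centralizer of `e, c, h` would contain an element of
order four with square `ech` fixed by an element of order three.
-/

set_option autoImplicit false
set_option linter.style.haveILetI false
set_option linter.unusedSectionVars false
set_option maxRecDepth 100000

namespace CfsgLib.SEightThree.KStruct

open Subgroup Equiv

universe u

/-- The subgroup of the eight products of `eF, cF, hF`. -/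
def EFgrp : Subgroup KF where
  carrier := Set.range EF
  one_mem' := ⟨(0, 0, 0), EF_facts.2.2.2.1.2.2.2⟩
  mul_mem' := by
    rintro _ _ ⟨i, rfl⟩ ⟨j, rfl⟩
    obtain ⟨l, hl⟩ := EF_facts.2.1 i j
    exact ⟨l, hl.symm⟩
  inv_mem' := by
    rintro _ ⟨i, rfl⟩
    exact ⟨i, (inv_eq_of_mul_eq_one_right (EF_facts.2.2.1 i)).symm⟩

theorem sym_five_one : ∀ k : Perm (Fin 5), k * k ≠ 1 → k ≠ 1 := by
  intro k h e
  exact h (by rw [e, mul_one])

theorem sq_move : ∀ p q : Fin 2,
    hF ^ 1 * eF * (eF ^ (0 : ℕ)) = hF * eF ∧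
    (eF * (hF ^ (p : ℕ) * cF ^ (q : ℕ)) = cF * (eF ^ (p : ℕ) * hF ^ (q : ℕ)) →
      p = 1 ∧ q = 1) := by
  decide +kernel

variable {G : Type u} [Group G] [Finite G] (S : Setup G)

attribute [local instance] Z_normal

local notation "L7" => Matrix.ProjectiveSpecialLinearGroup (Fin 2) (ZMod 7)

/-- Conjugation by an element of order three fixing a translate of `E` fixes a point of it. -/
theorem exists_fixed_coset {r k : G} (hr : r ^ 3 = 1) (E : Subgroup G)
    (hE : ∀ y ∈ E, r * y * r⁻¹ ∈ E) (hk : k⁻¹ * (r * k * r⁻¹) ∈ E) (hcard : ¬ 3 ∣ Nat.card E) :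
    ∃ y : G, k⁻¹ * y ∈ E ∧ r * y * r⁻¹ = y := by
  classical
  haveI := Fintype.ofFinite G
  let T := {y : G // k⁻¹ * y ∈ E}
  have hmap : ∀ y : T, k⁻¹ * (r * (y : G) * r⁻¹) ∈ E := fun y => by
    have e : k⁻¹ * (r * (y : G) * r⁻¹) = k⁻¹ * (r * k * r⁻¹) * (r * (k⁻¹ * (y : G)) * r⁻¹) := by
      group
    rw [e]; exact mul_mem hk (hE _ y.2)
  let f : T → T := fun y => ⟨_, hmap y⟩
  have hf : ∀ y : T, f (f (f y)) = y := fun y => Subtype.ext (by
    show r * (r * (r * (y : G) * r⁻¹) * r⁻¹) * r⁻¹ = y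
    calc r * (r * (r * (y : G) * r⁻¹) * r⁻¹) * r⁻¹ = r ^ 3 * y * (r ^ 3)⁻¹ := by
          rw [pow_succ, pow_two]; group
      _ = y := by rw [hr, one_mul, inv_one, mul_one])
  let e : Equiv.Perm T := ⟨f, fun y => f (f y), hf, hf⟩
  haveI := Fact.mk Nat.prime_three
  have hTE : Fintype.card T = Nat.card E := by
    rw [← Nat.card_eq_fintype_card]
    exact Nat.card_congr ((Equiv.mulLeft k⁻¹).subtypeEquiv fun y => Iff.rfl)
  obtain ⟨y, hy⟩ := Equiv.Perm.exists_fixed_point_of_prime (p := 3) (n := 1) (hTE ▸ hcard) (σ := e)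
    (by rw [pow_one, pow_succ, pow_two]; exact Equiv.ext hf)
  exact ⟨y, y.2, congrArg Subtype.val hy⟩

/-- The quotient is not `PSL₂(7)`. -/
theorem not_seven_case (hS : S.IsSym) (hW : centralizer (S.V : Set G) ≤ S.ψ.range)
    (f : Kb S ≃* L7) : False := by
  obtain ⟨-, hlist⟩ := list_facts
  set cK : S.K := ⟨S.ψ cF, c_mem_K S⟩ with hcK
  set cb : Kb S := (cK : Kb S) with hcb
  have hcc : S.ψ cF * S.ψ cF = 1 := psi_sq S rel_facts.1.2.2.1
  have hcb2 : cb * cb = 1 := by
    rw [hcb, ← QuotientGroup.mk_mul, show cK * cK = 1 from Subtype.ext hcc]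
    rfl
  have hcb1 : cb ≠ 1 := by
    intro h
    obtain ⟨p, q, hpq⟩ := (mem_Z S).1 (Subgroup.mem_subgroupOf.1
      ((QuotientGroup.eq_one_iff (N := S.Z.subgroupOf S.K) cK).1 h))
    refine EF_facts.2.2.2.2.2.2.2.2 ?_
    rw [S.inj hpq]
    fin_cases p <;> fin_cases q <;> simp
  obtain ⟨hall, p', q', hqq, hpp, hpc, hpqpq, hp1, hpcne, hcent⟩ :=
    psl_seven (f cb) (by rw [← map_mul, hcb2, map_one])
      (fun h => hcb1 (f.injective (by rw [h, map_one])))
  -- involutions of the quotient lift to involutions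
  have lift2 : ∀ y : S.K, (y : Kb S) * (y : Kb S) = 1 → (y : G) * y = 1 := by
    intro y hy
    by_cases hy1 : (y : Kb S) = 1
    · exact Z_sq S (Subgroup.mem_subgroupOf.1
        ((QuotientGroup.eq_one_iff (N := S.Z.subgroupOf S.K) y).1 hy1))
    · obtain ⟨n', hn⟩ := hall (f y) (by rw [← map_mul, hy, map_one])
        (fun h => hy1 (f.injective (by rw [h, map_one])))
      obtain ⟨nb, rfl⟩ := f.surjective n'
      obtain ⟨n, rfl⟩ := QuotientGroup.mk'_surjective _ nb
      rw [← map_inv, ← map_mul, ← map_mul] at hn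
      have hn' : ((n * cK * n⁻¹ : S.K) : Kb S) = (y : Kb S) := f.injective hn
      have hz := Subgroup.mem_subgroupOf.1 (QuotientGroup.eq.1 hn')
      set ζ := (((n * cK * n⁻¹)⁻¹ * y : S.K) : G)
      have e : (y : G) = ((n * cK * n⁻¹ : S.K) : G) * ζ := by
        simp only [ζ, Subgroup.coe_mul, Subgroup.coe_inv]; group
      rw [e, show ((n * cK * n⁻¹ : S.K) : G) * ζ * (((n * cK * n⁻¹ : S.K) : G) * ζ) =
        ((n * cK * n⁻¹ : S.K) : G) * (ζ * ((n * cK * n⁻¹ : S.K) : G)) * ζ by group,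
        ← (Z_comm S hz (n * cK * n⁻¹).2).eq, show
        ((n * cK * n⁻¹ : S.K) : G) * (((n * cK * n⁻¹ : S.K) : G) * ζ) * ζ =
          ((n * cK * n⁻¹ : S.K) : G) * ((n * cK * n⁻¹ : S.K) : G) * (ζ * ζ) by group,
        Z_sq S hz, mul_one]
      simp only [Subgroup.coe_mul, Subgroup.coe_inv, conj_mul]
      rw [show (cK : G) * cK = 1 from hcc, mul_one, mul_inv_cancel]
  obtain ⟨qb, rfl⟩ := f.surjective q'
  obtain ⟨pb, rfl⟩ := f.surjective p'
  obtain ⟨qK, rfl⟩ := QuotientGroup.mk'_surjective _ qb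
  obtain ⟨pK, rfl⟩ := QuotientGroup.mk'_surjective _ pb
  set q := (qK : G) with hqdef
  set p := (pK : G) with hpdef
  simp only [← map_mul] at hqq hpc hpp hpqpq
  rw [← map_one f] at hpp hpqpq
  have hqq' : ((qK * qK : S.K) : Kb S) = cb := f.injective hqq
  have hpp' : p * p = 1 := lift2 pK (f.injective hpp)
  have hpq2 : p * q * (p * q) = 1 := lift2 (pK * qK) (f.injective hpqpq)
  -- `p` and `q` commute with `c`
  obtain ⟨ζq, hζq, hq2⟩ : ∃ ζ ∈ S.Z, q * q = S.ψ cF * ζ := by
    refine ⟨_, Subgroup.mem_subgroupOf.1 (QuotientGroup.eq.1 hqq'.symm), ?_⟩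
    simp only [Subgroup.coe_mul, Subgroup.coe_inv]
    rw [show ((cK : S.K) : G) = S.ψ cF from rfl, mul_inv_cancel_left]
  have hqc : Commute q (S.ψ cF) := by
    have h1 : Commute q (q * q) := (Commute.refl q).mul_right (Commute.refl q)
    rw [hq2] at h1
    have h2 : Commute q ζq := Z_comm S hζq qK.2
    have := h1.mul_right h2.inv_right
    rwa [mul_inv_cancel_right] at this
  have hpcG : p * S.ψ cF = S.ψ cF * p := by
    have h := lift2 (pK * cK) (by
      rw [QuotientGroup.mk_mul]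
      have h' : ((pK : Kb S)) * cb = cb * (pK : Kb S) := f.injective hpc
      calc (pK : Kb S) * cb * ((pK : Kb S) * cb)
          = (pK : Kb S) * (cb * (pK : Kb S)) * cb := by group
        _ = ((pK : Kb S) * (pK : Kb S)) * (cb * cb) := by rw [← h']; group
        _ = 1 := by rw [hcb2, mul_one]; exact f.injective hpp)
    have h' : p * S.ψ cF * (p * S.ψ cF) = 1 := h
    calc p * S.ψ cF = (p * S.ψ cF)⁻¹ := (inv_eq_of_mul_eq_one_right h').symm
      _ = S.ψ cF * p := by
        rw [mul_inv_rev, inv_eq_of_mul_eq_one_right hcc, inv_eq_of_mul_eq_one_right hpp']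
  -- the group `E`
  set E := EFgrp.map S.ψ with hE
  have hcardE : Nat.card E = 8 := by
    rw [hE, Subgroup.card_map_of_injective S.inj]
    show Nat.card (Set.range EF) = 8
    rw [Nat.card_range_of_injective EF_facts.1, Nat.card_eq_fintype_card]
    rfl
  obtain ⟨Ee, Ec, Eh, E1⟩ := EF_facts.2.2.2.1
  have heE : S.ψ eF ∈ E := ⟨_, ⟨(1, 0, 0), rfl⟩, congrArg S.ψ Ee⟩
  have hcE : S.ψ cF ∈ E := ⟨_, ⟨(0, 1, 0), rfl⟩, congrArg S.ψ Ec⟩
  have hhE : S.ψ hF ∈ E := ⟨_, ⟨(0, 0, 1), rfl⟩, congrArg S.ψ Eh⟩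
  have hZE : S.Z ≤ E := by
    intro y hy
    obtain ⟨a, b, rfl⟩ := (mem_Z S).1 hy
    exact ⟨_, ⟨(a, 0, b), rfl⟩, congrArg S.ψ (EF_facts.2.2.2.2.1 a b).1⟩
  have commE : ∀ {y : G}, y * S.ψ eF = S.ψ eF * y → y * S.ψ cF = S.ψ cF * y →
      y * S.ψ hF = S.ψ hF * y → ∀ w ∈ E, Commute y w := by
    rintro y h1 h2 h3 _ ⟨_, ⟨i, rfl⟩, rfl⟩
    show Commute y (S.ψ (EF i))
    rw [EF, map_mul, map_mul, map_pow, map_pow, map_pow]
    exact (((show Commute y (S.ψ eF) from h1).pow_right _).mul_right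
      ((show Commute y (S.ψ cF) from h2).pow_right _)).mul_right
      ((show Commute y (S.ψ hF) from h3).pow_right _)
  have hKc : ∀ y ∈ S.K, y * S.ψ cF = S.ψ cF * y → ∀ w ∈ E, Commute y w := fun y hy hc =>
    commE ((mem_K S).1 hy).1 hc ((mem_K S).1 hy).2
  have hpE := hKc p pK.2 hpcG
  have hqE := hKc q qK.2 hqc.eq
  have hE2 : ∀ w ∈ E, w * w = 1 := by
    rintro _ ⟨_, ⟨i, rfl⟩, rfl⟩
    exact psi_sq S (EF_facts.2.2.1 i)
  -- every element of the centralizer lies in one of four cosets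
  have cases4 : ∀ y ∈ S.K, y * S.ψ cF = S.ψ cF * y →
      y ∈ E ∨ q⁻¹ * y ∈ E ∨ p⁻¹ * y ∈ E ∨ (p * q)⁻¹ * y ∈ E := by
    intro y hy hc
    set yK : S.K := ⟨y, hy⟩
    have hk : f (yK : Kb S) * f cb = f cb * f (yK : Kb S) := by
      rw [← map_mul, ← map_mul]
      refine congrArg f ?_
      show ((yK * cK : S.K) : Kb S) = ((cK * yK : S.K) : Kb S)
      rw [show yK * cK = cK * yK from Subtype.ext hc]
    have h8 := hcent _ hk
    simp only [← map_mul, List.mem_cons, List.not_mem_nil, or_false] at h8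
    have key : ∀ w : S.K, f (yK : Kb S) = f (w : Kb S) → (w : G)⁻¹ * y ∈ E := fun w h =>
      hZE (Subgroup.mem_subgroupOf.1 (QuotientGroup.eq.1 (f.injective h).symm))
    rcases h8 with h | h | h | h | h | h | h | h
    · refine Or.inl ?_
      have := key 1 (h.trans (map_one f).symm)
      rwa [Subgroup.coe_one, inv_one, one_mul] at this
    · exact Or.inr (Or.inl (key qK h))
    · refine Or.inl ?_
      have := mul_mem hcE (key cK h)
      rwa [show ((cK : S.K) : G) = S.ψ cF from rfl, mul_inv_cancel_left] at this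
    · refine Or.inr (Or.inl ?_)
      have h' := mul_mem hcE (key (qK * cK) h)
      rw [show ((qK * cK : S.K) : G) = q * S.ψ cF from rfl, mul_inv_rev, ← mul_assoc,
        ← mul_assoc, mul_inv_cancel, one_mul] at h'
      exact h'
    · exact Or.inr (Or.inr (Or.inl (key pK h)))
    · exact Or.inr (Or.inr (Or.inr (key (pK * qK) h)))
    · refine Or.inr (Or.inr (Or.inl ?_))
      have h' := mul_mem hcE (key (pK * cK) h)
      rw [show ((pK * cK : S.K) : G) = p * S.ψ cF from rfl, mul_inv_rev, ← mul_assoc,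
        ← mul_assoc, mul_inv_cancel, one_mul] at h'
      exact h'
    · refine Or.inr (Or.inr (Or.inr ?_))
      have h' := mul_mem hcE (key (pK * (qK * cK)) h)
      rw [show ((pK * (qK * cK) : S.K) : G) = p * q * S.ψ cF from by
        show p * (q * S.ψ cF) = _; rw [mul_assoc], mul_inv_rev, ← mul_assoc,
        ← mul_assoc, mul_inv_cancel, one_mul] at h'
      exact h'
  set s := q * q with hs
  have hsE : s ∈ E := hq2 ▸ mul_mem hcE (hZE hζq)
  have hs1 : s ≠ 1 := fun h => hcb1 (by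
    rw [← hqq', show qK * qK = 1 from Subtype.ext h]; rfl)
  have sq_coset : ∀ {k y : G}, (∀ w ∈ E, Commute k w) → k⁻¹ * y ∈ E → y * y = k * k := by
    intro k y hk hy
    obtain ⟨w, hw, rfl⟩ : ∃ w ∈ E, y = k * w := ⟨_, hy, (mul_inv_cancel_left _ _).symm⟩
    calc k * w * (k * w) = k * (w * k) * w := by group
      _ = k * k * (w * w) := by rw [← (hk w hw).eq]; group
      _ = k * k := by rw [hE2 w hw, mul_one]
  have hpqE : ∀ w ∈ E, Commute (p * q) w := fun w hw => (hpE w hw).mul_left (hqE w hw)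
  have sq_one : ∀ y : G, (y ∈ E ∨ p⁻¹ * y ∈ E ∨ (p * q)⁻¹ * y ∈ E) → y * y = 1 := by
    rintro y (h | h | h)
    · exact hE2 y h
    · rw [sq_coset hpE h, hpp']
    · rw [sq_coset hpqE h, hpq2]
  have hqnot : ∀ {y : G}, q⁻¹ * y ∈ E → y ∉ E ∧ p⁻¹ * y ∉ E ∧ (p * q)⁻¹ * y ∉ E := by
    intro y hy
    have hy2 : y * y = s := sq_coset hqE hy
    refine ⟨?_, ?_, ?_⟩ <;> intro h <;> refine hs1 (hy2 ▸ sq_one y ?_)
    exacts [Or.inl h, Or.inr (Or.inl h), Or.inr (Or.inr h)]
  have hpnot : p ∉ E := by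
    intro h
    have hmem : ∀ i : Fin 2 × Fin 2 × Fin 2, p = S.ψ (EF i) → False := by
      rintro ⟨a, b, c'⟩ hi
      have hzero : f ((pK : S.K) : Kb S) = 1 ∨ f ((pK : S.K) : Kb S) = f cb := by
        obtain ⟨e0, e1⟩ := EF_facts.2.2.2.2.1 a c'
        fin_cases b
        · left
          rw [show pK = ⟨_, Z_le_K S ((mem_Z S).2 ⟨a, c', rfl⟩)⟩ from Subtype.ext
            (hi.trans (congrArg S.ψ e0)), ← map_one f]
          exact congrArg f ((QuotientGroup.eq_one_iff _).2
            (Subgroup.mem_subgroupOf.2 ((mem_Z S).2 ⟨a, c', rfl⟩)))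
        · right
          refine congrArg f (QuotientGroup.eq.2 (Subgroup.mem_subgroupOf.2 ?_))
          rw [Subgroup.coe_mul, Subgroup.coe_inv, ← hpdef,
            show p = S.ψ cF * S.ψ (eF ^ (a : ℕ) * hF ^ (c' : ℕ)) by
              rw [hi, ← map_mul]; exact congrArg S.ψ e1,
            mul_inv_rev, inv_eq_of_mul_eq_one_right hcc, mul_assoc, hcc, mul_one]
          exact inv_mem ((mem_Z S).2 ⟨a, c', rfl⟩)
      exact hzero.elim hp1 hpcne
    obtain ⟨_, ⟨i, rfl⟩, hi⟩ := h
    exact hmem i hi.symm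
  -- the element of order three
  obtain ⟨r, hr3, re, rh, rc, -⟩ := exists_rho S hS
  have hrE : ∀ y ∈ E, r * y * r⁻¹ ∈ E := by
    rintro _ ⟨_, ⟨i, rfl⟩, rfl⟩
    rw [EF, map_mul, map_mul, map_pow, map_pow, map_pow, ← conj_mul, ← conj_mul, ← conj_pow,
      ← conj_pow, ← conj_pow, re, rc, rh]
    exact mul_mem (mul_mem (pow_mem hhE _) (pow_mem heE _)) (pow_mem hcE _)
  have hrC : ∀ y ∈ S.K, y * S.ψ cF = S.ψ cF * y →
      r * y * r⁻¹ ∈ S.K ∧ r * y * r⁻¹ * S.ψ cF = S.ψ cF * (r * y * r⁻¹) := fun y hy hc =>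
    ⟨(mem_K S).2 ⟨conj_comm rc hc, conj_comm re ((mem_K S).1 hy).1⟩,
      conj_comm rh ((mem_K S).1 hy).2⟩
  -- `q` and its square
  have hrq : q⁻¹ * (r * q * r⁻¹) ∈ E := by
    obtain ⟨h1, h2⟩ := hrC q qK.2 hqc.eq
    rcases cases4 _ h1 h2 with h | h | h | h
    · exfalso; have h' := sq_one _ (Or.inl h); rw [conj_mul, conj_eq_one_iff] at h'; exact hs1 h'
    · exact h
    · exfalso; have h' := sq_one _ (Or.inr (Or.inl h))
      rw [conj_mul, conj_eq_one_iff] at h'; exact hs1 h'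
    · exfalso; have h' := sq_one _ (Or.inr (Or.inr h))
      rw [conj_mul, conj_eq_one_iff] at h'; exact hs1 h'
  have hrs : r * s * r⁻¹ = s := by rw [hs, ← conj_mul]; exact sq_coset hqE hrq
  have hsval : s = S.ψ (eF * cF * hF) := by
    obtain ⟨a, b, rfl⟩ := (mem_Z S).1 hζq
    have h := hrs
    rw [hq2, map_mul, map_pow, map_pow, ← conj_mul, ← conj_mul, ← conj_pow, ← conj_pow, rc, re,
      rh, ← map_pow, ← map_pow, ← map_pow, ← map_pow, ← map_mul, ← map_mul, ← map_mul,
      ← map_mul] at h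
    obtain ⟨rfl, rfl⟩ := (sq_move a b).2 (S.inj h)
    rw [hq2, ← map_mul]
    exact congrArg S.ψ (by decide +kernel)
  -- `p`
  have hrp : p⁻¹ * (r * p * r⁻¹) ∈ E := by
    have hthree : ∀ y : G, r * (r * (r * y * r⁻¹) * r⁻¹) * r⁻¹ = y := fun y => by
      calc r * (r * (r * y * r⁻¹) * r⁻¹) * r⁻¹ = r ^ 3 * y * (r ^ 3)⁻¹ := by
            rw [pow_succ, pow_two]; group
        _ = y := by rw [hr3, one_mul, inv_one, mul_one]
    have hback : ∀ y : G, r * y * r⁻¹ ∈ E → y ∈ E := fun y h =>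
      hthree y ▸ hrE _ (hrE _ h)
    obtain ⟨h1, h2⟩ := hrC p pK.2 hpcG
    rcases cases4 _ h1 h2 with h | h | h | h
    · exact absurd (hback p h) hpnot
    · exfalso
      refine hs1 ?_
      exact (sq_coset hqE h).symm.trans (by rw [conj_mul, hpp', mul_one, mul_inv_cancel])
    · exact h
    · exfalso
      -- the second image would lie in `p E`
      have e1 : p⁻¹ * (r * (r * p * r⁻¹) * r⁻¹) ∈ E := by
        set w := (p * q)⁻¹ * (r * p * r⁻¹)
        set w' := q⁻¹ * (r * q * r⁻¹)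
        have e : p⁻¹ * (r * (r * p * r⁻¹) * r⁻¹) = p⁻¹ * ((r * p * r⁻¹) * (r * q * r⁻¹) *
            (r * w * r⁻¹)) := by simp only [w]; group
        rw [e]
        have e' : p⁻¹ * ((r * p * r⁻¹) * (r * q * r⁻¹) * (r * w * r⁻¹)) =
            q * w * q * w' * (r * w * r⁻¹) := by simp only [w, w']; group
        rw [e', show q * w * q = q * q * w by rw [mul_assoc, ← (hqE w h).eq, ← mul_assoc]]
        exact mul_mem (mul_mem (mul_mem hsE h) hrq) (hrE w h)
      -- hence so would the third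
      set v := p⁻¹ * (r * (r * p * r⁻¹) * r⁻¹)
      have e2 : (p * q)⁻¹ * p ∈ E := by
        have e : (p * q)⁻¹ * (r * (r * (r * p * r⁻¹) * r⁻¹) * r⁻¹) =
            ((p * q)⁻¹ * (r * p * r⁻¹)) * (r * v * r⁻¹) := by simp only [v]; group
        rw [hthree] at e
        rw [e]
        exact mul_mem h (hrE v e1)
      rw [mul_inv_rev, mul_assoc, inv_mul_cancel, mul_one] at e2
      exact hs1 (hE2 q (inv_inv q ▸ inv_mem e2))
  obtain ⟨w, hwE, hwr⟩ := exists_fixed_coset hr3 E hrE hrq (by rw [hcardE]; norm_num)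
  obtain ⟨u, huE, hur⟩ := exists_fixed_coset hr3 E hrE hrp (by rw [hcardE]; norm_num)
  have hw2 : w * w = s := sq_coset hqE hwE
  have hu2 : u * u = 1 := sq_one u (Or.inr (Or.inl huE))
  have huw : p * q * (u * w)⁻¹ ∈ E ∧ (p * q)⁻¹ * (u * w) ∈ E := by
    obtain ⟨a, ha, rfl⟩ : ∃ a ∈ E, u = p * a := ⟨_, huE, (mul_inv_cancel_left _ _).symm⟩
    obtain ⟨b, hb, rfl⟩ : ∃ b ∈ E, w = q * b := ⟨_, hwE, (mul_inv_cancel_left _ _).symm⟩
    have e : p * a * (q * b) = p * q * (a * b) := by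
      calc p * a * (q * b) = p * (a * q) * b := by group
        _ = p * q * (a * b) := by rw [← (hqE a ha).eq]; group
    rw [e, mul_inv_rev, ← (hpqE _ (mul_mem ha hb)).inv_inv.eq]
    refine ⟨?_, by rw [inv_mul_cancel_left]; exact mul_mem ha hb⟩
    rw [← mul_assoc, mul_inv_cancel, one_mul]
    exact inv_mem (mul_mem ha hb)
  have huw2 : u * w * (u * w) = 1 := sq_one _ (Or.inr (Or.inr huw.2))
  have inK : ∀ {k y : G}, k ∈ S.K → k * S.ψ cF = S.ψ cF * k → k⁻¹ * y ∈ E →
      y ∈ S.K ∧ y * S.ψ cF = S.ψ cF * y := by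
    intro k y hk hc hy
    obtain ⟨a, ⟨_, ⟨i, rfl⟩, ha⟩, rfl⟩ : ∃ a ∈ E, y = k * a :=
      ⟨_, hy, (mul_inv_cancel_left _ _).symm⟩
    have hcomm := hKc k hk hc
    have haK : a ∈ S.K := by
      rw [← ha, EF, map_mul, map_mul, map_pow, map_pow, map_pow]
      exact mul_mem (mul_mem (pow_mem (Z_le_K S (e_mem_Z S)) _) (pow_mem (c_mem_K S) _))
        (pow_mem (Z_le_K S (h_mem_Z S)) _)
    refine ⟨mul_mem hk haK, ?_⟩
    refine (Commute.mul_left (show Commute k (S.ψ cF) from hc) ?_).eq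
    show Commute a (S.ψ cF)
    rw [← ha, EF, map_mul, map_mul, map_pow, map_pow, map_pow]
    exact (((show Commute (S.ψ eF) (S.ψ cF) from S.map_comm rel_facts.2.1.2.1).pow_left _).mul_left
      ((Commute.refl (S.ψ cF)).pow_left _)).mul_left
      ((show Commute (S.ψ hF) (S.ψ cF) from S.map_comm rel_facts.2.1.2.2.1.symm).pow_left _)
  obtain ⟨huK, huc⟩ := inK pK.2 hpcG huE
  obtain ⟨hwK, hwc⟩ := inK qK.2 hqc.eq hwE
  have huE' : u ∉ E := fun h => hpnot (by
    have := mul_mem h (inv_mem huE)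
    rwa [mul_inv_rev, inv_inv, mul_inv_cancel_left] at this)
  have hwu : Commute u s := hKc u huK huc s hsE
  have hr1 : r ≠ 1 := fun h => by
    rw [h, one_mul, inv_one, mul_one] at re
    exact absurd (S.inj re) (by decide +kernel)
  have com : ∀ {y : G}, r * y * r⁻¹ = y → y * r = r * y := fun h =>
    (mul_inv_eq_iff_eq_mul.1 h).symm
  obtain ⟨n, hz | hd⟩ := cent_three_elt S hr3 hr1
  · obtain ⟨kw, hkw⟩ := S.cent_z_le (mem_centralizer_singleton_iff.2 (hz w (com hwr)))
    obtain ⟨ku, hku⟩ := S.cent_z_le (mem_centralizer_singleton_iff.2 (hz u (com hur)))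
    have hwz := S.comm_of_map (by rw [hkw]; exact hz w (com hwr) : S.ψ kw * S.ψ zF = S.ψ zF * S.ψ kw)
    have huz := S.comm_of_map (by rw [hku]; exact hz u (com hur) : S.ψ ku * S.ψ zF = S.ψ zF * S.ψ ku)
    have hs2 : s * s = 1 := hE2 s hsE
    have hkw4 : kw ^ 4 = 1 := S.inj (by
      rw [map_pow, hkw, conj_pow, show 4 = 2 * 2 from rfl, pow_mul, pow_two w, hw2, pow_two, hs2,
        map_one, mul_one, mul_inv_cancel])
    have hkw2 : kw * kw ≠ 1 := fun h => hs1 (by
      have : S.ψ kw * S.ψ kw = 1 := by rw [← map_mul, h, map_one]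
      rw [hkw, conj_mul, hw2, conj_eq_one_iff] at this
      exact this)
    have hku2 : ku * ku = 1 := S.inj (by
      rw [map_mul, hku, conj_mul, hu2, map_one, mul_one, mul_inv_cancel])
    have hkuw2 : ku * kw * (ku * kw) = 1 := S.inj (by
      rw [map_mul, map_mul, hku, hkw, conj_mul, conj_mul, huw2, map_one, mul_one, mul_inv_cancel])
    obtain ⟨-, -, h4, -⟩ := sym_three_fix kw.1 (congrArg Prod.fst hwz)
    have hw1 : kw.1 = 1 := h4 (congrArg Prod.fst hkw4)
    have hu1 : ku.1 = 1 := (sym_three_fix ku.1 (congrArg Prod.fst huz)).2.1 (congrArg Prod.fst hku2)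
    have hkw22 : kw.2 * kw.2 ≠ 1 := fun h => hkw2 (Prod.ext (by simp [hw1]) (by simpa using h))
    obtain ⟨hodd, heven⟩ := four_odd kw.2 (congrArg Prod.snd hkw4) hkw22
    -- an even involution outside the cyclic group
    obtain ⟨k', u', hk', hk'1, hk'2, hsgn, hu'K, hu'c, hu'E⟩ : ∃ (k' : KF) (u' : G),
        S.ψ k' = n * u' * n⁻¹ ∧ k'.1 = 1 ∧ u' * u' = 1 ∧ Perm.sign k'.2 = 1 ∧ u' ∈ S.K ∧
          u' * S.ψ cF = S.ψ cF * u' ∧ u' ∉ E := by
      rcases Int.units_eq_one_or (Perm.sign ku.2) with h | h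
      · exact ⟨ku, u, hku, hu1, hu2, h, huK, huc, huE'⟩
      · refine ⟨ku * kw, u * w, ?_, ?_, huw2, ?_, mul_mem huK hwK,
          (Commute.mul_left huc hwc).eq, fun hmem => ?_⟩
        · rw [map_mul, hku, hkw, conj_mul]
        · show ku.1 * kw.1 = 1; rw [hu1, hw1, one_mul]
        · show Perm.sign (ku.2 * kw.2) = 1
          rw [map_mul, h, hodd]; rfl
        · have h' : p * q ∈ E := by
            have := mul_mem huw.1 hmem
            rwa [inv_mul_cancel_right] at this
          refine hs1 ?_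
          -- `p q ∈ E` makes `q` commute with `p`, so `s = 1`
          have hcpq : Commute p q := by
            have := (hpE _ h')
            have e : q = p⁻¹ * (p * q) := (inv_mul_cancel_left _ _).symm
            rw [e]; exact (Commute.refl p).inv_right.mul_right this
          calc s = (p * p) * (q * q) := by rw [hpp', one_mul]
            _ = p * q * (p * q) := by
              rw [mul_assoc p q, ← mul_assoc q p, ← hcpq.eq]; group
            _ = 1 := hE2 _ h'
    have hu's : Commute u' s := hKc u' hu'K hu'c s hsE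
    have hks0 : S.ψ (kw * kw) = n * s * n⁻¹ := by rw [map_mul, hkw, conj_mul, hw2]
    have hks : k' * (kw * kw) = kw * kw * k' := S.inj (by
      rw [map_mul S.ψ k' (kw * kw), map_mul S.ψ (kw * kw) k', hk', hks0, conj_mul, conj_mul,
        hu's.eq])
    have hk'sq : k'.2 * k'.2 = 1 := congrArg Prod.snd (show k' * k' = 1 from S.inj (by
      rw [map_mul, hk', conj_mul, hk'2, map_one, mul_one, mul_inv_cancel]))
    have hkne : kw.2 * kw.2 ≠ k'.2 := by
      intro e
      have hkk : k' = kw * kw := Prod.ext (by simp [hw1, hk'1]) (by simpa using e.symm)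
      rw [hkk, map_mul, hkw, conj_mul, hw2] at hk'
      exact hu'E (mul_left_cancel (mul_right_cancel hk') ▸ hsE)
    have hk'ne : k'.2 ≠ 1 := by
      intro e
      rw [show k' = 1 from Prod.ext hk'1 e, map_one, eq_comm, conj_eq_one_iff] at hk'
      exact hu'E (hk' ▸ one_mem E)
    obtain ⟨m, hm1, hm2⟩ := four_conj (kw.2 * kw.2) (by
        have := congrArg Prod.snd hkw4
        simp only [pow_succ, pow_zero, one_mul, Prod.snd_mul, Prod.snd_one, mul_assoc] at this
        rw [mul_assoc]; exact this)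
      hkw22 heven k'.2 hk'sq hk'ne hsgn (congrArg Prod.snd hks).symm hkne
    -- an elementary group of order sixteen in the centralizer of a four-group
    set N' := S.ψ (1, m) * n with hN'
    have hs' : N' * s * N'⁻¹ = S.ψ aF := by
      rw [hN', show S.ψ (1, m) * n * s * (S.ψ (1, m) * n)⁻¹ =
        S.ψ (1, m) * (n * s * n⁻¹) * (S.ψ (1, m))⁻¹ by group, ← hks0]
      refine S.map_conj (Prod.ext ?_ ?_)
      · simp [hw1, aF]
      · simpa [aF] using hm1
    have hu'' : N' * u' * N'⁻¹ = S.ψ bF := by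
      rw [hN', show S.ψ (1, m) * n * u' * (S.ψ (1, m) * n)⁻¹ =
        S.ψ (1, m) * (n * u' * n⁻¹) * (S.ψ (1, m))⁻¹ by group, ← hk']
      refine S.map_conj (Prod.ext ?_ ?_)
      · simp [hk'1, bF]
      · simpa [bF] using hm2
    set R := zpowers u' ⊔ E with hR
    have hEn : E ≤ normalizer (zpowers u' : Set G) := fun a ha => by
      refine Subgroup.mem_normalizer_fintype fun b hb => ?_
      obtain ⟨i, rfl⟩ := Subgroup.mem_zpowers_iff.1 hb
      rw [((hKc u' hu'K hu'c a ha).zpow_left i).symm.eq, mul_inv_cancel_right]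
      exact zpow_mem (mem_zpowers u') i
    have hR2 : IsPGroup 2 R :=
      IsPGroup.to_sup_of_normal_left'
        (fun a => ⟨1, Subtype.ext (by
          obtain ⟨i, hi⟩ := Subgroup.mem_zpowers_iff.1 a.2
          show (a : G) ^ 2 ^ 1 = 1
          rw [pow_one, ← hi, ← zpow_natCast, ← zpow_mul, mul_comm, zpow_mul, zpow_natCast,
            pow_two, hk'2, one_zpow])⟩)
        (fun a => ⟨1, Subtype.ext (by
          show (a : G) ^ 2 ^ 1 = 1
          rw [pow_one, pow_two]; exact hE2 _ a.2)⟩) hEn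
    have hRle : R.map (MulAut.conj N').toMonoidHom ≤ centralizer (S.V : Set G) := by
      rw [Subgroup.map_le_iff_le_comap, hR, sup_le_iff]
      have key : ∀ y : G, y * s = s * y → y * u' = u' * y →
          y ∈ (centralizer (S.V : Set G)).comap (MulAut.conj N').toMonoidHom := by
        intro y h1 h2
        show N' * y * N'⁻¹ ∈ centralizer (S.V : Set G)
        rw [Setup.V, centralizer_closure, mem_centralizer_iff]
        rintro _ (rfl | rfl)
        · exact (conj_comm hs' h1).symm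
        · exact (conj_comm hu'' h2).symm
      exact ⟨zpowers_le.2 (key u' hu's.eq rfl), fun a ha =>
        key a (show Commute a s from by
          obtain ⟨_, ⟨i, rfl⟩, rfl⟩ := ha
          obtain ⟨_, ⟨j, rfl⟩, hj⟩ := hsE
          rw [← hj]
          show Commute (S.ψ (EF i)) (S.ψ (EF j))
          refine S.map_comm ?_
          obtain ⟨l, hl⟩ := EF_facts.2.1 i j
          have h1 := EF_facts.2.2.1 l
          rw [← hl] at h1
          calc EF i * EF j = (EF i * EF j)⁻¹ := (inv_eq_of_mul_eq_one_right h1).symm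
            _ = EF j * EF i := by
              rw [mul_inv_rev, inv_eq_of_mul_eq_one_right (EF_facts.2.2.1 i),
                inv_eq_of_mul_eq_one_right (EF_facts.2.2.1 j)]).eq
          (hKc u' hu'K hu'c a ha).symm.eq⟩
    have h24 : Nat.card (centralizer (S.V : Set G)) ∣ 24 := by
      classical
      set A := (centralizer ({aF, bF} : Set KF)).map S.ψ
      have hA : centralizer (S.V : Set G) ≤ A := by
        intro y hy
        obtain ⟨k, rfl⟩ := hW hy
        rw [Setup.V, centralizer_closure, mem_centralizer_iff] at hy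
        refine ⟨k, mem_centralizer_iff.2 ?_, rfl⟩
        rintro _ (rfl | rfl)
        · exact S.comm_of_map (hy _ (Or.inl rfl))
        · exact S.comm_of_map (hy _ (Or.inr rfl))
      refine (Subgroup.card_dvd_of_le hA).trans (dvd_of_eq ?_)
      rw [Subgroup.card_map_of_injective S.inj, ← card_cent_four, ← Fintype.card_subtype,
        ← Nat.card_eq_fintype_card]
      refine Nat.card_congr (Equiv.subtypeEquivRight fun k => ?_)
      rw [mem_centralizer_iff]
      simp only [Set.mem_insert_iff, Set.mem_singleton_iff, forall_eq_or_imp, forall_eq]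
      exact ⟨fun h => ⟨h.1.symm, h.2.symm⟩, fun h => ⟨h.1.symm, h.2.symm⟩⟩
    have hd24 : Nat.card R ∣ 24 := by
      have hc : Nat.card (R.map (MulAut.conj N').toMonoidHom) = Nat.card R :=
        Subgroup.card_map_of_injective (MulAut.conj N').injective
      rw [← hc]
      exact (Subgroup.card_dvd_of_le hRle).trans h24
    obtain ⟨m', hm'⟩ := IsPGroup.iff_card.1 hR2
    rw [hm', show 24 = 2 ^ 3 * 3 from rfl] at hd24
    have h8 := Nat.le_of_dvd (by norm_num)
      ((Nat.Coprime.pow_left m' (by norm_num : Nat.Coprime 2 3)).dvd_of_dvd_mul_right hd24)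
    have heq := Subgroup.eq_of_le_of_card_ge (le_sup_right : E ≤ R) (by rw [hm', hcardE]; exact h8)
    have huR : u' ∈ R := (le_sup_left : zpowers u' ≤ R) (mem_zpowers u')
    exact hu'E (heq.symm ▸ huR)
  · -- the centralizer of the diagonal element has elementary quotient
    have h1 := hd w (com hwr)
    rw [map_mul] at h1
    have hsq := S.sq_y _ (mem_centralizer_singleton_iff.2 h1)
    rw [conj_pow, pow_two, hw2] at hsq
    obtain ⟨i, j, hij⟩ := S.mem_D_iff.1 hsq
    have h3 : (n * s * n⁻¹) ^ 3 = 1 := by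
      rw [hij, ← map_pow, (Commute.pow_pow (show Commute zF dF from rel_facts.2.2.2.2.2.2.1) _ _).mul_pow,
        ← pow_mul, ← pow_mul, mul_comm (i : ℕ), mul_comm (j : ℕ), pow_mul, pow_mul,
        show zF ^ 3 = 1 by rw [pow_succ, pow_two]; exact rel_facts.2.2.2.2.2.2.2.1,
        show dF ^ 3 = 1 by rw [pow_succ, pow_two]; exact rel_facts.2.2.2.2.2.2.2.2.1,
        one_pow, one_pow, one_mul, map_one]
    rw [conj_pow, conj_eq_one_iff, pow_succ, pow_two, hE2 s hsE, one_mul] at h3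
    exact hs1 h3

end CfsgLib.SEightThree.KStruct
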